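import Mathlib
import Cfsg.Agent.FixBN.RankOneL2
import Cfsg.Agent.CpAut.Descent
import Cfsg.Agent.FixBN.GoodFam

-- merged: Cfsg.Agent.BpTri.FamP
section

/-!
# Fixed point free permutations of prime order of the projective line (S1332)

* `GoodFamP ℓ U` : every fixed point free permutation `th`, `th ^ ℓ = 1`, permuting the family `U` has solvable
  centraliser in the group of all permutations permuting the family;
* `IsLine F U` : the family `U` is the family of the root groups of the projective line over `F`;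
* `goodFamP_of_isLine` : `F` finite, `2 ≠ 0` in `F`, `ℓ` prime: then `GoodFamP ℓ U`.
-/

set_option autoImplicit false

namespace Cfsg.Agent.BpTri

open Cfsg.Agent.FixBN Cfsg.Agent.FixBN.RankOneL2 Cfsg.Agent.CpAut.Descent
open scoped commutatorElement

/-- Every fixed point free permutation `th` with `th ^ ℓ = 1` permuting the family has solvable centraliser in the
group of all permutations permuting the family. -/
def GoodFamP (ℓ : ℕ) {Om : Type*} (U : Om → Subgroup (Equiv.Perm Om)) : Prop :=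
  ∀ th ∈ famStab U, th ^ ℓ = 1 → (∀ w, th w ≠ w) →
    Group.IsSolvable ↥(famStab U ⊓ Subgroup.centralizer ({th} : Set (Equiv.Perm Om)))

/-- Transport of `GoodFamP` under a bijection of the points. -/
theorem GoodFamP.map {ℓ : ℕ} {Om Om' : Type*} (e : Om ≃ Om') {U : Om → Subgroup (Equiv.Perm Om)}
    {U' : Om' → Subgroup (Equiv.Perm Om')} (hU : ∀ y g, g ∈ U y ↔ e.permCongr g ∈ U' (e y)) (h : GoodFamP ℓ U) :
    GoodFamP ℓ U' := by
  set f : Equiv.Perm Om ≃* Equiv.Perm Om' := e.permCongrHom with hf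
  have hfa : ∀ g, f g = e.permCongr g := fun g => rfl
  have hst : ∀ c : Equiv.Perm Om, c ∈ famStab U ↔ f c ∈ famStab U' := by
    intro c
    have hcy : ∀ y, (f c) (e y) = e (c y) := fun y => by
      show e (c (e.symm (e y))) = e (c y)
      rw [e.symm_apply_apply]
    constructor
    · intro hc y g
      obtain ⟨y, rfl⟩ := e.surjective y
      obtain ⟨g, rfl⟩ := f.surjective g
      rw [hcy, ← map_mul, ← map_inv, ← map_mul, hfa, hfa, ← hU, ← hU]
      exact hc y g
    · intro hc y g
      have := hc (e y) (f g)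
      rwa [hcy, ← map_mul, ← map_inv, ← map_mul, hfa, hfa, ← hU, ← hU] at this
  intro th hth h2 hfree
  obtain ⟨s, rfl⟩ := f.surjective th
  have hs2 : s ^ ℓ = 1 := by
    apply f.injective
    rw [map_pow, map_one]
    exact h2
  have hsf : ∀ w, s w ≠ w := by
    intro w hw
    apply hfree (e w)
    show e (s (e.symm (e w))) = e w
    rw [e.symm_apply_apply, hw]
  have h3 := h s ((hst s).2 hth) hs2 hsf
  have h4 : famStab U' ⊓ Subgroup.centralizer ({f s} : Set (Equiv.Perm Om')) =
      (famStab U ⊓ Subgroup.centralizer ({s} : Set (Equiv.Perm Om))).map f.toMonoidHom := by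
    ext x
    constructor
    · rintro ⟨h5, hc⟩
      obtain ⟨y, rfl⟩ := f.surjective x
      have hc' : f y ∈ Subgroup.centralizer ({f s} : Set (Equiv.Perm Om')) := hc
      have hc2 : y ∈ Subgroup.centralizer ({s} : Set (Equiv.Perm Om)) := by
        rw [Subgroup.mem_centralizer_singleton_iff] at hc' ⊢
        apply f.injective
        rw [map_mul, map_mul]
        exact hc'
      exact ⟨y, ⟨(hst y).2 h5, hc2⟩, rfl⟩
    · rintro ⟨y, ⟨hy, hc⟩, rfl⟩
      have hc' : y ∈ Subgroup.centralizer ({s} : Set (Equiv.Perm Om)) := hc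
      have hc2 : f y ∈ Subgroup.centralizer ({f s} : Set (Equiv.Perm Om')) := by
        rw [Subgroup.mem_centralizer_singleton_iff] at hc' ⊢
        rw [← map_mul, hc', map_mul]
      exact ⟨(hst y).1 hy, hc2⟩
  rw [h4]
  exact Group.isSolvable_of_surjective (f := f.toMonoidHom.subgroupMap _) (f.toMonoidHom.subgroupMap_surjective _)

/-- The family `U` is the family of the root groups of the projective line over `F`. -/
def IsLine (F : Type*) [Field F] {Om : Type*} (U : Om → Subgroup (Equiv.Perm Om)) : Prop :=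
  ∃ e : Option F ≃ Om, ∀ y g, g ∈ lineFam F y ↔ e.permCongr g ∈ U (e y)

section Line

variable {F : Type*} [Field F]

theorem Lift.pow {c : Equiv.Perm (Option F)} {φ : F ≃+* F} {T : (F × F) ≃+ (F × F)} (h : Lift c φ T) (k : ℕ) :
    ∃ T' : (F × F) ≃+ (F × F), Lift (c ^ k) (φ ^ k) T' ∧
      ∀ v, T' v = ((T.toEquiv : Equiv.Perm (F × F)) ^ k : Equiv.Perm (F × F)) v := by
  induction k with
  | zero => exact ⟨AddEquiv.refl _, Lift.one, fun v => rfl⟩
  | succ k ih =>
    obtain ⟨T', h1, h2⟩ := ih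
    refine ⟨T.trans T', ?_, fun v => ?_⟩
    · rw [pow_succ, pow_succ]
      exact h1.mul h
    · rw [pow_succ]
      exact h2 (T v)

/-- A fixed point free semilinear permutation of prime order is linear. -/
theorem refl_of_free_pow [Finite F] {ℓ : ℕ} (hℓ : ℓ.Prime) {th : Equiv.Perm (Option F)} (hpow : th ^ ℓ = 1)
    (hfree : ∀ w, th w ≠ w) {φ : F ≃+* F} {T : (F × F) ≃+ (F × F)} (hT : Lift th φ T) :
    φ = RingEquiv.refl F := by
  by_contra hne
  obtain ⟨T', h1, h2⟩ := Lift.pow hT ℓ
  rw [hpow] at h1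
  obtain ⟨⟨l, hl0, hl⟩, hφ⟩ := h1.scalar
  have : Fact ℓ.Prime := ⟨hℓ⟩
  have hord : orderOf φ = ℓ := orderOf_eq_prime hφ hne
  set g : Equiv.Perm (F × F) := T.toEquiv with hg
  have hgs : Semi g φ := ⟨fun u v => map_add T u v, fun a v => hT.semi a v⟩
  obtain ⟨c, hc⟩ := exists_scale (V := F × F) hgs hord hℓ.pos hl0 (fun v => by rw [← h2, hl])
    ⟨(1, 0), by simp⟩
  have hcs : Semi (scal (F × F) c * g) ((1 : F ≃+* F) * φ) := (semi_scal c).mul hgs
  rw [one_mul] at hcs
  obtain ⟨b, hb⟩ := exists_basis hcs hord hℓ.pos hc (ι := Fin 2) (by simp)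
  have hb0 : b 0 ≠ 0 := b.ne_zero 0
  have h3 : (c : F) • T (b 0) = b 0 := hb 0
  apply hfree (pt (b 0))
  rw [hT.act _ hb0]
  conv_rhs => rw [← h3]
  exact (pt_smul c.ne_zero _).symm

/-- Fixed point free permutations of prime order of the projective line have solvable centralisers. -/
theorem goodFamP_lineFam [Finite F] (h2 : (2 : F) ≠ 0) {ℓ : ℕ} (hℓ : ℓ.Prime) : GoodFamP ℓ (lineFam F) := by
  intro th hth hsq hfree
  obtain ⟨φ, T, hT⟩ := exists_lift h2 hth
  obtain rfl := refl_of_free_pow hℓ hsq hfree hT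
  have hTlin : ∀ (a : F) v, T (a • v) = a • T v := hT.semi
  set G : Subgroup (Equiv.Perm (Option F)) :=
    famStab (lineFam F) ⊓ Subgroup.centralizer ({th} : Set (Equiv.Perm (Option F))) with hG
  have hcomm : ∀ c : ↥G, (c : Equiv.Perm (Option F)) * th = th * c := fun c =>
    Subgroup.mem_centralizer_singleton_iff.mp c.2.2
  -- linear elements
  let G1 : Subgroup ↥G :=
    { carrier := {c | ∃ S, Lift (c : Equiv.Perm (Option F)) (RingEquiv.refl F) S}
      one_mem' := ⟨_, Lift.one⟩
      mul_mem' := by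
        rintro _ _ ⟨_, h1⟩ ⟨_, h2⟩
        exact ⟨_, h1.mul h2⟩
      inv_mem' := by
        rintro _ ⟨_, h1⟩
        exact ⟨_, h1.inv⟩ }
  let G2 : Subgroup ↥G :=
    { carrier := {c | ∃ S, Lift (c : Equiv.Perm (Option F)) (RingEquiv.refl F) S ∧
        ∀ v, S (T v) = T (S v)}
      one_mem' := ⟨_, Lift.one, fun _ => rfl⟩
      mul_mem' := by
        rintro _ _ ⟨S, h1, h1'⟩ ⟨R, h2, h2'⟩
        refine ⟨_, h1.mul h2, fun v => ?_⟩
        change S (R (T v)) = T (S (R v))
        rw [h2', h1']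
      inv_mem' := by
        rintro _ ⟨S, h1, h1'⟩
        refine ⟨_, h1.inv, fun v => ?_⟩
        apply S.injective
        rw [S.apply_symm_apply, h1', S.apply_symm_apply] }
  have hD1 : derivedSeries ↥G 1 ≤ G1 := by
    rw [derivedSeries_succ, Subgroup.commutator_le]
    intro c _ d _
    obtain ⟨φc, S, hS⟩ := exists_lift h2 c.2.1
    obtain ⟨φd, R, hR⟩ := exists_lift h2 d.2.1
    have h3 := ((hS.mul hR).mul hS.inv).mul hR.inv
    have h4 : (φd.symm.trans (φc.symm.trans (φd.trans φc))) = RingEquiv.refl F := by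
      ext x
      change φc (φd (φc.symm (φd.symm x))) = x
      rw [aut_comm φc φd, φc.apply_symm_apply, φd.apply_symm_apply]
    rw [h4] at h3
    exact ⟨_, h3⟩
  -- the multiplier
  have hmu : ∀ (c : ↥G) (S : (F × F) ≃+ (F × F)),
      Lift (c : Equiv.Perm (Option F)) (RingEquiv.refl F) S →
      ∃ m : F, m ≠ 0 ∧ ∀ v, S (T v) = m • T (S v) := by
    intro c S hS
    have h3 := ((hS.mul hT).mul hS.inv).mul hT.inv
    have h4 : (c : Equiv.Perm (Option F)) * th * (c : Equiv.Perm (Option F))⁻¹ * th⁻¹ = 1 := by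
      rw [hcomm c, mul_inv_cancel_right, mul_inv_cancel]
    rw [h4] at h3
    obtain ⟨⟨m, hm0, hm⟩, -⟩ := h3.scalar
    refine ⟨m, hm0, fun v => ?_⟩
    have h5 : S (T (S.symm (T.symm (T (S v))))) = m • T (S v) := hm (T (S v))
    rw [T.symm_apply_apply, S.symm_apply_apply] at h5
    exact h5
  have hD2 : derivedSeries ↥G 2 ≤ G2 := by
    rw [derivedSeries_succ, Subgroup.commutator_le]
    intro c hc d hd
    obtain ⟨S, hS⟩ := hD1 hc
    obtain ⟨R, hR⟩ := hD1 hd
    obtain ⟨m, hm0, hm⟩ := hmu c S hS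
    obtain ⟨n, hn0, hn⟩ := hmu d R hR
    have hSl : ∀ (a : F) v, S (a • v) = a • S v := hS.semi
    have hRl : ∀ (a : F) v, R (a • v) = a • R v := hR.semi
    have hm' : ∀ v, S.symm (T v) = m⁻¹ • T (S.symm v) := by
      intro v
      apply S.injective
      rw [S.apply_symm_apply, hSl, hm, S.apply_symm_apply, smul_smul, inv_mul_cancel₀ hm0, one_smul]
    have hn' : ∀ v, R.symm (T v) = n⁻¹ • T (R.symm v) := by
      intro v
      apply R.injective
      rw [R.apply_symm_apply, hRl, hn, R.apply_symm_apply, smul_smul, inv_mul_cancel₀ hn0, one_smul]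
    have hSs : ∀ (a : F) v, S.symm (a • v) = a • S.symm v := hS.inv.semi
    refine ⟨_, ((hS.mul hR).mul hS.inv).mul hR.inv, fun v => ?_⟩
    change S (R (S.symm (R.symm (T v)))) = T (S (R (S.symm (R.symm v))))
    rw [hn', hSs, hRl, hSl, hm', hRl, hSl, hn, hSl, hm, smul_smul, smul_smul, smul_smul]
    have : n⁻¹ * m⁻¹ * n * m = 1 := by field_simp
    rw [this, one_smul]
  have hD3 : derivedSeries ↥G 3 ≤ ⊥ := by
    rw [derivedSeries_succ, Subgroup.commutator_le]
    intro c hc d hd
    obtain ⟨S, hS, hST⟩ := hD2 hc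
    obtain ⟨R, hR, hRT⟩ := hD2 hd
    have hSl : ∀ (a : F) v, S (a • v) = a • S v := hS.semi
    have hRl : ∀ (a : F) v, R (a • v) = a • R v := hR.semi
    obtain ⟨a, b, hab⟩ := exists_comb hfree hT (S (1, 0))
    obtain ⟨a', b', hab'⟩ := exists_comb hfree hT (R (1, 0))
    have h0 : S (R (1, 0)) = R (S (1, 0)) := by
      have e1 : S (R (1, 0)) = a' • S (1, 0) + b' • T (S (1, 0)) := by
        conv_lhs => rw [hab']
        rw [map_add, hSl, hSl, hST]
      have e2 : R (S (1, 0)) = a • R (1, 0) + b • T (R (1, 0)) := by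
        conv_lhs => rw [hab]
        rw [map_add, hRl, hRl, hRT]
      rw [e1, e2, hab, hab']
      simp only [map_add, hTlin, smul_add, smul_smul]
      rw [mul_comm a' a, mul_comm a' b, mul_comm b' a, mul_comm b' b]
      abel
    have hSR : ∀ v, S (R v) = R (S v) := by
      intro v
      obtain ⟨x, y, rfl⟩ := exists_comb hfree hT v
      rw [map_add, map_add, map_add, map_add, hSl, hSl, hRl, hRl, hRl, hRl, hSl, hSl, h0, hRT, hST,
        hST, hRT, h0]
    rw [Subgroup.mem_bot, commutatorElement_eq_one_iff_mul_comm]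
    apply Subtype.ext
    apply Equiv.ext
    intro y
    obtain ⟨v, hv, rfl⟩ := pt_surj y
    change (c : Equiv.Perm (Option F)) ((d : Equiv.Perm (Option F)) (pt v)) =
      (d : Equiv.Perm (Option F)) ((c : Equiv.Perm (Option F)) (pt v))
    rw [hR.act v hv, hS.act v hv, hS.act _ (map_ne_zero' R hv), hR.act _ (map_ne_zero' S hv), hSR]
  exact ⟨3, le_bot_iff.mp hD3⟩

theorem IsLine.goodFamP [Finite F] (h2 : (2 : F) ≠ 0) {ℓ : ℕ} (hℓ : ℓ.Prime) {Om : Type*}
    {U : Om → Subgroup (Equiv.Perm Om)} (h : IsLine F U) : GoodFamP ℓ U := by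
  obtain ⟨e, he⟩ := h
  exact (goodFamP_lineFam h2 hℓ).map e he

end Line

end Cfsg.Agent.BpTri

end

-- merged: Cfsg.Agent.BpTri.Panel
section

/-!
# The stabiliser of an invariant panel without fixed chambers (S1332)

`isSolvable_panel`: `τ` an automorphism of the group `G` with its action `θ` on the chambers, `θ` stabilises the panel
`Q` and fixes none of its chambers; then the fixed points of `τ` in the stabiliser of `Q` are a solvable group.
-/

set_option autoImplicit false

open scoped Pointwise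

namespace Cfsg.Agent.BpTri

open Cfsg.Agent.FixBN Cfsg.Agent.Tits.Core Cfsg.Agent.Tits.Core.Bldg

variable {I : Type*} {M : CoxeterMatrix I} {W : Type*} [Group W] {cs : CoxeterSystem M W} {C : Type*}
  {Δ : Bldg cs C} {G : Type*} [Group G] [MulAction G C] {p : ℕ}

/-- the permutation of a set induced by a permutation stabilising it -/
def onSet {Q : Set C} (f : Equiv.Perm C) (hf : ∀ y, y ∈ Q ↔ f y ∈ Q) : Equiv.Perm Q := f.subtypePerm fun y => (hf y).symm

theorem onSet_apply {Q : Set C} (f : Equiv.Perm C) (hf : ∀ y, y ∈ Q ↔ f y ∈ Q) (y : Q) :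
    ((onSet f hf y : Q) : C) = f y := rfl

/-- a permutation `f` of the chambers, semilinear with respect to `α`, permutes the root groups -/
theorem onSet_mem_famStab (S : Sys Δ G p) {i : I} {x : C} (f : Equiv.Perm C)
    (hf : ∀ y, y ∈ Δ.Pan i x ↔ f y ∈ Δ.Pan i x) (α : G ≃* G) (hα : ∀ (g : G) y, f (g • y) = α g • f y) :
    onSet f hf ∈ famStab (S.fam i x) := by
  have hU : ∀ y u, u ∈ S.U y → α u ∈ S.U (f y) := by
    intro y u hu
    have h1 : IsPGroup p ((S.U y).map α.toMonoidHom) := (S.isP y).map _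
    refine S.max (f y) _ h1 ?_ ⟨u, hu, rfl⟩
    rintro _ ⟨v, hv, rfl⟩
    change α v • f y = f y
    rw [← hα, S.fix y v hv]
  have hα' : ∀ (g : G) y, f.symm (g • y) = α.symm g • f.symm y := by
    intro g y
    apply f.injective
    rw [hα, f.apply_symm_apply, α.apply_symm_apply, f.apply_symm_apply]
  have hU' : ∀ y u, u ∈ S.U (f y) → α.symm u ∈ S.U y := by
    intro y u hu
    have h1 : IsPGroup p ((S.U (f y)).map α.symm.toMonoidHom) := (S.isP _).map _
    refine S.max y _ h1 ?_ ⟨u, hu, rfl⟩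
    rintro _ ⟨v, hv, rfl⟩
    change α.symm v • y = y
    have h2 := hα' v (f y)
    rw [f.symm_apply_apply, S.fix _ v hv, f.symm_apply_apply] at h2
    exact h2.symm
  rw [mem_famStab]
  intro y g
  rw [S.mem_fam, S.mem_fam]
  constructor
  · rintro ⟨u, hu, h⟩
    refine ⟨α u, hU _ _ hu, fun z => ?_⟩
    have h1 : (((onSet f hf) * g * (onSet f hf)⁻¹) z : C) = f (g ((onSet f hf)⁻¹ z) : C) := rfl
    rw [h1, h, hα]
    congr 1
    have h2 : (onSet f hf) ((onSet f hf)⁻¹ z) = z := (onSet f hf).apply_symm_apply z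
    exact congrArg Subtype.val h2
  · rintro ⟨u, hu, h⟩
    refine ⟨α.symm u, hU' _ _ hu, fun z => ?_⟩
    have h1 := h (onSet f hf z)
    have h2 : ((((onSet f hf) * g * (onSet f hf)⁻¹) (onSet f hf z) : Δ.Pan i x) : C) = f (g z : C) := by
      change (f (g ((onSet f hf)⁻¹ (onSet f hf z)) : C)) = _
      rw [show (onSet f hf)⁻¹ (onSet f hf z) = z from (onSet f hf).symm_apply_apply z]
    rw [h2, onSet_apply] at h1
    apply f.injective
    rw [h1, hα, α.apply_symm_apply]

/-- **Panels without fixed chambers.** -/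
theorem isSolvable_panel (S : Sys Δ G p) {ℓ : ℕ} {i : I} {x : C} (hfam : GoodFamP ℓ (S.fam i x))
    (hsol : Group.IsSolvable (MulAction.stabilizer G x)) (τ : G ≃* G) (θ : Equiv.Perm C)
    (hθ : ∀ (g : G) y, θ (g • y) = τ g • θ y) (hpow : θ ^ ℓ = 1) (hQ : ∀ y, y ∈ Δ.Pan i x ↔ θ y ∈ Δ.Pan i x)
    (hfree : ∀ y ∈ Δ.Pan i x, θ y ≠ y) (H : Subgroup G) (hH : ∀ g ∈ H, τ g = g)
    (hHQ : ∀ g ∈ H, g • Δ.Pan i x = Δ.Pan i x) : Group.IsSolvable ↥H := by
  have hst : ∀ g : H, ∀ y, y ∈ Δ.Pan i x ↔ MulAction.toPermHom G C g y ∈ Δ.Pan i x := by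
    intro g y
    change y ∈ Δ.Pan i x ↔ (g : G) • y ∈ Δ.Pan i x
    have h1 := Set.smul_mem_smul_set_iff (a := (g : G)) (s := Δ.Pan i x) (x := y)
    rw [hHQ g g.2] at h1
    exact h1.symm
  let ψ : H →* Equiv.Perm (Δ.Pan i x) :=
    { toFun := fun g => onSet (MulAction.toPermHom G C g) (hst g)
      map_one' := by
        ext y
        exact one_smul G (y : C)
      map_mul' := fun a b => by
        ext y
        exact mul_smul (a : G) (b : G) (y : C) }
  have hψ : ∀ (g : H) y, ((ψ g y : Δ.Pan i x) : C) = (g : G) • (y : C) := fun g y => rfl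
  let th : Equiv.Perm (Δ.Pan i x) := onSet θ hQ
  have hth : th ∈ famStab (S.fam i x) := onSet_mem_famStab S θ hQ τ hθ
  have hpow' : th ^ ℓ = 1 := by
    have h1 : ∀ (k : ℕ) (y : Δ.Pan i x), (((th ^ k : Equiv.Perm _) y : Δ.Pan i x) : C) = (θ ^ k : Equiv.Perm C) y := by
      intro k
      induction k with
      | zero => intro y; rfl
      | succ k ih =>
        intro y
        rw [pow_succ, pow_succ, Equiv.Perm.mul_apply, Equiv.Perm.mul_apply, ih]
        rfl
    ext y
    rw [h1, hpow]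
    rfl
  have hs := hfam th hth hpow' fun y hy => hfree y y.2 (congrArg Subtype.val hy)
  have hle : ψ.range ≤ famStab (S.fam i x) ⊓ Subgroup.centralizer ({th} : Set (Equiv.Perm (Δ.Pan i x))) := by
    rintro _ ⟨g, rfl⟩
    refine ⟨?_, ?_⟩
    · refine onSet_mem_famStab S _ (hst g) (MulAut.conj (g : G)) fun k y => ?_
      change (g : G) • k • y = ((g : G) * k * (g : G)⁻¹) • (g : G) • y
      rw [mul_smul, inv_smul_smul, mul_smul]
    · refine Subgroup.mem_centralizer_singleton_iff.2 ?_
      ext y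
      change (g : G) • θ y = θ ((g : G) • y)
      rw [hθ, hH g g.2]
  have h1 : Group.IsSolvable ψ.range :=
    Group.isSolvable_of_isSolvable_injective (Subgroup.inclusion_injective hle)
  have h2 : Group.IsSolvable ψ.ker := by
    refine Group.isSolvable_of_isSolvable_injective
      (f := ((H.subtype.comp ψ.ker.subtype).codRestrict (MulAction.stabilizer G x) fun k => ?_)) ?_
    · have h3 : ψ k.1 = 1 := k.2
      have h4 := hψ k.1 ⟨x, Δ.self_mem_Pan i x⟩
      rw [h3] at h4
      exact h4.symm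
    · intro a b hab
      exact Subtype.ext (Subtype.ext (congrArg (fun y : MulAction.stabilizer G x => (y : G)) hab))
  exact Group.isSolvable_of_ker_le_range ψ.ker.subtype ψ.rangeRestrict (by
    intro g hg
    rw [MonoidHom.ker_rangeRestrict] at hg
    rwa [Subgroup.range_subtype])

end Cfsg.Agent.BpTri

end
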