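import Mathlib
import Cfsg.Agent.Tits.Gate
import Cfsg.Agent.Tits.ExtAux

/-!
# Minimal invariant residues in the presence of an invariant panel (S1332, triality)

`min_type`: `θ` an automorphism of a building with type permutation `σ`, `σ i = i → i = e`; if `θ` leaves a panel of
type `e` invariant then every minimal `θ`-invariant residue is a chamber or a panel of type `e`.
-/

set_option autoImplicit false

open Cfsg.Agent.Tits.Exchange Cfsg.Agent.Tits.Core Cfsg.Agent.Tits.Core.Bldg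

namespace Cfsg.Agent.BpTri

variable {I : Type*} {M : CoxeterMatrix I} {W : Type*} [Group W] {cs : CoxeterSystem M W} {C : Type*}
  (Δ : Bldg cs C)

local prefix:100 "ℓ" => cs.length

theorem length_le_of_adj {y y' w : C} {e : I} (h : Δ.δ y y' = cs.simple e) :
    ℓ (Δ.δ y w) ≤ ℓ (Δ.δ y' w) + 1 := by
  rcases Δ.step_left (z := w) h with h4 | h4
  · rw [h4]
    rcases cs.length_simple_mul (Δ.δ y' w) e with h5 | h5 <;> omega
  · rw [h4]
    omega

/-- The projections of two adjacent chambers are equal or adjacent. -/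
theorem proj_adj (hinj : Function.Injective cs.simple) {J : Set I} {x z z' : C} {e : I}
    (h : Δ.δ z z' = cs.simple e) :
    Δ.proj J x z = Δ.proj J x z' ∨ ∃ t ∈ J, Δ.δ (Δ.proj J x z) (Δ.proj J x z') = cs.simple t := by
  have hmem : Δ.δ (Δ.proj J x z) (Δ.proj J x z') ∈ WJ cs J :=
    Δ.δ_mem_of_mem_Res (Δ.proj_mem J x z) (Δ.proj_mem J x z')
  have h1 := Δ.length_proj_add (J := J) (x := x) (u := z) (Δ.proj_mem J x z')
  have h2 := Δ.length_proj_add (J := J) (x := x) (u := z') (Δ.proj_mem J x z)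
  have h3 := length_le_of_adj Δ (w := Δ.proj J x z') h
  have h4 := length_le_of_adj Δ (w := Δ.proj J x z) (Δ.δ_symm_simple h)
  rw [Δ.length_δ_comm (Δ.proj J x z) (Δ.proj J x z')] at h2
  rcases Nat.lt_or_ge 0 (ℓ (Δ.δ (Δ.proj J x z) (Δ.proj J x z'))) with h5 | h5
  · right
    have h6 : ℓ (Δ.δ (Δ.proj J x z) (Δ.proj J x z')) = 1 := by omega
    obtain ⟨t, ht⟩ := cs.length_eq_one_iff.1 h6
    refine ⟨t, ?_, ht⟩
    rw [ht] at hmem
    exact Cfsg.Agent.Tits.Ext.mem_of_simple_mem_WJ hinj hmem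
  · left
    have h6 : ℓ (Δ.δ (Δ.proj J x z) (Δ.proj J x z')) = 0 := by omega
    exact Δ.eq_of_δ_eq_one (cs.length_eq_zero_iff.1 h6)

section Aut

variable (θ : C ≃ C) (φ : W ≃* W) (σ : I → I) (hφ : ∀ i, φ (cs.simple i) = cs.simple (σ i))
  (hδ : ∀ x y, Δ.δ (θ x) (θ y) = φ (Δ.δ x y))

/-- The residue `Res J x` is invariant. -/
def Inv (J : Set I) (x : C) : Prop := (∀ i ∈ J, σ i ∈ J) ∧ θ x ∈ Δ.Res J x

/-- The residue `Res J x` is a minimal invariant residue. -/
def MinInv (J : Set I) (x : C) : Prop :=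
  Inv Δ θ σ J x ∧ ∀ K ⊆ J, ∀ y ∈ Δ.Res J x, Inv Δ θ σ K y → K = J

variable {θ φ σ}

include hφ in
theorem map_WJ {J : Set I} (hJ : ∀ i ∈ J, σ i ∈ J) {w : W} (hw : w ∈ WJ cs J) : φ w ∈ WJ cs J := by
  unfold WJ at hw
  induction hw using Subgroup.closure_induction with
  | mem x hx =>
    obtain ⟨i, hi, rfl⟩ := hx
    rw [hφ]
    exact simple_mem_WJ cs (hJ i hi)
  | one => rw [map_one]; exact one_mem _
  | mul x y _ _ hx hy => rw [map_mul]; exact mul_mem hx hy
  | inv x _ hx => rw [map_inv]; exact inv_mem hx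

include hφ in
theorem length_map_le (w : W) : ℓ (φ w) ≤ ℓ w := by
  obtain ⟨ω, hω, rfl⟩ := cs.exists_isReduced w
  rw [hω.eq]
  have h1 : φ (cs.wordProd ω) = cs.wordProd (ω.map σ) := by
    clear hω
    induction ω with
    | nil => rw [cs.wordProd_nil, map_one, List.map_nil, cs.wordProd_nil]
    | cons i ω ih => rw [cs.wordProd_cons, map_mul, ih, hφ, List.map_cons, cs.wordProd_cons]
  rw [h1]
  have h2 := cs.length_wordProd_le (ω.map σ)
  rwa [List.length_map] at h2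

include hφ hδ in
theorem length_map [Finite C] (z : C) (w : W) : ℓ (φ w) = ℓ w := by
  refine le_antisymm (length_map_le hφ w) ?_
  have h1 : ∀ (k : ℕ) (w : W), ℓ ((φ ^ k : W ≃* W) w) ≤ ℓ w := by
    intro k
    induction k with
    | zero => intro w; exact le_rfl
    | succ k ih =>
      intro w
      rw [pow_succ]
      exact (ih (φ w)).trans (length_map_le hφ w)
  have h2 : ∀ (k : ℕ) (x y : C), Δ.δ ((θ ^ k : Equiv.Perm C) x) ((θ ^ k : Equiv.Perm C) y) =
      (φ ^ k : MulAut W) (Δ.δ x y) := by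
    intro k
    induction k with
    | zero => intro x y; rfl
    | succ k ih =>
      intro x y
      rw [pow_succ, pow_succ]
      change Δ.δ ((θ ^ k : Equiv.Perm C) (θ x)) ((θ ^ k : Equiv.Perm C) (θ y)) = (φ ^ k : MulAut W) (φ (Δ.δ x y))
      rw [ih, hδ]
  obtain ⟨n, hn, hn'⟩ : ∃ n : ℕ, 0 < n ∧ (θ : Equiv.Perm C) ^ n = 1 :=
    ⟨orderOf (θ : Equiv.Perm C), orderOf_pos _, pow_orderOf_eq_one _⟩
  obtain ⟨m, rfl⟩ := Nat.exists_eq_succ_of_ne_zero hn.ne'
  obtain ⟨y, hy⟩ := Δ.exists_δ z w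
  have h3 := h2 (m + 1) z y
  rw [hn', Equiv.Perm.one_apply, Equiv.Perm.one_apply, hy, pow_succ] at h3
  calc ℓ w = ℓ ((φ ^ m : MulAut W) (φ w)) := congrArg _ h3
    _ ≤ ℓ (φ w) := h1 m (φ w)

include hφ hδ in
/-- `θ` maps an invariant residue into itself. -/
theorem Inv.map_mem {J : Set I} {x y : C} (h : Inv Δ θ σ J x) (hy : y ∈ Δ.Res J x) : θ y ∈ Δ.Res J x := by
  refine Δ.mem_Res_trans h.2 ?_
  rw [Δ.mem_Res, hδ]
  exact map_WJ hφ h.1 hy

/-- If the power `θ ^ k` is trivial then `θ` commutes with the projection onto an invariant residue. -/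
theorem proj_map_of_length (hlen : ∀ w, ℓ (φ w) = ℓ w) (hφ : ∀ i, φ (cs.simple i) = cs.simple (σ i))
    (hδ : ∀ x y, Δ.δ (θ x) (θ y) = φ (Δ.δ x y)) {J : Set I} {x : C} (h : Inv Δ θ σ J x)
    (hsurj : ∀ y ∈ Δ.Res J x, ∃ y' ∈ Δ.Res J x, θ y' = y) (z : C) :
    Δ.proj J x (θ z) = θ (Δ.proj J x z) := by
  have hm : θ (Δ.proj J x z) ∈ Δ.Res J x := Inv.map_mem Δ hφ hδ h (Δ.proj_mem J x z)
  refine Δ.proj_eq_of_isProj ⟨hm, fun a ha => ?_⟩
  obtain ⟨a', ha', rfl⟩ := hsurj a ha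
  rw [hδ, hδ, hδ, hlen, hlen, hlen, Δ.length_proj_add ha', ← map_mul, ← Δ.δ_proj_mul ha']
  exact ⟨rfl, rfl⟩

include hδ in
/-- **Minimal invariant residues.** -/
theorem min_type [Finite C] (hinj : Function.Injective cs.simple) (hφ : ∀ i, φ (cs.simple i) = cs.simple (σ i))
    {e : I} (hσe : σ e = e) (hfix : ∀ i, σ i = i → i = e) {z : C} (hz : θ z ∈ Δ.Res {e} z) {J : Set I} {x : C}
    (h : MinInv Δ θ σ J x) : J = ∅ ∨ J = {e} := by
  have hlen : ∀ w, ℓ (φ w) = ℓ w := length_map Δ hφ hδ z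
  have hsurj : ∀ y ∈ Δ.Res J x, ∃ y' ∈ Δ.Res J x, θ y' = y := by
    intro y hy
    let f : ↥(Δ.Res J x) → ↥(Δ.Res J x) := fun a => ⟨θ a, Inv.map_mem Δ hφ hδ h.1 a.2⟩
    have hf : Function.Injective f := by
      intro a b hab
      have := congrArg Subtype.val hab
      exact Subtype.ext (θ.injective this)
    obtain ⟨a, ha⟩ := (Finite.injective_iff_surjective.1 hf) ⟨y, hy⟩
    exact ⟨a, a.2, congrArg Subtype.val ha⟩
  have hpr := proj_map_of_length Δ hlen hφ hδ h.1 hsurj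
  set u := Δ.proj J x z with hu
  have humem : u ∈ Δ.Res J x := Δ.proj_mem J x z
  -- a fixed chamber of the residue
  have key0 : θ u = u → J = ∅ := by
    intro h1
    refine (h.2 ∅ (Set.empty_subset _) u humem ⟨fun i hi => hi.elim, ?_⟩).symm
    rw [h1]
    exact Δ.self_mem_Res _ _
  rw [Δ.mem_Res, mem_WJ_singleton] at hz
  rcases hz with hz | hz
  · left
    apply key0
    rw [← hpr, ← Δ.eq_of_δ_eq_one hz]
  rcases proj_adj Δ hinj (J := J) (x := x) hz with h1 | ⟨t, htJ, ht⟩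
  · left
    apply key0
    rw [← hpr, ← h1]
  rw [hpr, ← hu] at ht
  -- the third chamber
  have h2 : Δ.δ (θ u) (θ (θ u)) = cs.simple (σ t) := by rw [hδ, ht, hφ]
  have h3 : Δ.δ (θ z) (θ (θ z)) = cs.simple e := by rw [hδ, hz, hφ, hσe]
  have h4 : Δ.δ z (θ (θ z)) = 1 ∨ Δ.δ z (θ (θ z)) = cs.simple e := by
    rcases Δ.step z (θ z) (θ (θ z)) e h3 with h5 | h5
    · left
      rw [h5, hz, cs.simple_mul_simple_self]
    · right
      rw [h5, hz]
  have h5 : σ t = t := by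
    by_contra hne
    have h6 : ℓ (Δ.δ u (θ u) * Δ.δ (θ u) (θ (θ u))) = ℓ (Δ.δ u (θ u)) + ℓ (Δ.δ (θ u) (θ (θ u))) := by
      rw [ht, h2, cs.length_simple, cs.length_simple]
      rcases cs.length_mul_simple (cs.simple t) (σ t) with h7 | h7
      · rw [h7, cs.length_simple]
      · exfalso
        rw [cs.length_simple] at h7
        have h8 : ℓ (cs.simple t * cs.simple (σ t)) = 0 := by omega
        rw [cs.length_eq_zero_iff, mul_eq_one_iff_eq_inv, cs.inv_simple] at h8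
        exact hne (hinj h8).symm
    have h7 := Δ.δ_mul h6
    have h8 : ℓ (Δ.δ u (θ (θ u))) = 2 := by
      rw [h7, h6, ht, h2, cs.length_simple, cs.length_simple]
    have h9 : ℓ (Δ.δ u (θ (θ u))) ≤ 1 := by
      have h10 : θ (θ u) = Δ.proj J x (θ (θ z)) := by rw [hpr, hpr]
      rcases h4 with h4 | h4
      · rw [h10, ← Δ.eq_of_δ_eq_one h4, ← hu, Δ.δ_self, cs.length_one]
        omega
      · rcases proj_adj Δ hinj (J := J) (x := x) h4 with h11 | ⟨t', -, h11⟩
        · rw [h10, ← h11, ← hu, Δ.δ_self, cs.length_one]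
          omega
        · rw [h10, hu, h11, cs.length_simple]
    omega
  right
  have h6 := hfix t h5
  subst h6
  refine (h.2 {t} (Set.singleton_subset_iff.2 htJ) u humem ⟨fun i hi => ?_, ?_⟩).symm
  · rw [Set.mem_singleton_iff] at hi
    rw [hi, h5]
    exact Set.mem_singleton _
  · rw [Δ.mem_Res, ht]
    exact simple_mem_WJ cs (Set.mem_singleton _)

end Aut

end Cfsg.Agent.BpTri
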