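import Mathlib
import Cfsg.Agent.Tits.Gate
import Cfsg.Agent.Tits.ExtAux

/-!
# Counting chambers modulo `r` (S1332, triality)

`Δ` a finite building all of whose panels have `≡ 1` chambers modulo a prime `r` (characteristic `r`).

* `sum_δ` : `∑ y, F (δ x y) = F 1` in `ZMod r`;
* `sum_Res` : `∑ y ∈ Res J x, Q (δ u y) = Q (δ u (proj u))`;
* `exists_meet` : an automorphism `θ` mapping `K`-residues to `L`-residues and `L`-residues to `N`-residues maps some
  `K`-residue to an `L`-residue meeting it, provided that every element of `W` minimal in its right coset of `W_N` lies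
  in `W_K W_L`;
* `proj_mem` : residues which meet pairwise have a common chamber.
-/

set_option autoImplicit false

open Cfsg.Agent.Tits.Exchange Cfsg.Agent.Tits.Core Cfsg.Agent.Tits.Core.Bldg

namespace Cfsg.Agent.BpTri

variable {I : Type*} {M : CoxeterMatrix I} {W : Type*} [Group W] {cs : CoxeterSystem M W} {C : Type*}
  (Δ : Bldg cs C)

local prefix:100 "ℓ" => cs.length

/-- All panels have `1` chamber modulo `r`. -/
def PanMod (r : ℕ) : Prop := ∀ i x, ((Nat.card (Δ.Pan i x) : ℕ) : ZMod r) = 1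

open Classical in
/-- the indicator of a proposition -/
noncomputable def ib (r : ℕ) (P : Prop) : ZMod r := if P then 1 else 0

section Ib

variable {r : ℕ}

theorem ib_true {P : Prop} (h : P) : ib r P = 1 := if_pos h

theorem ib_false {P : Prop} (h : ¬ P) : ib r P = 0 := if_neg h

theorem ib_congr {P Q : Prop} (h : P ↔ Q) : ib r P = ib r Q := by
  by_cases hP : P
  · rw [ib_true hP, ib_true (h.1 hP)]
  · rw [ib_false hP, ib_false fun hQ => hP (h.2 hQ)]

theorem ib_and (P Q : Prop) : ib r (P ∧ Q) = ib r P * ib r Q := by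
  by_cases hP : P
  · rw [ib_true hP, one_mul]
    exact ib_congr ⟨fun h => h.2, fun h => ⟨hP, h⟩⟩
  · rw [ib_false hP, zero_mul, ib_false fun h => hP h.1]

theorem ib_mul_congr {P : Prop} {a b : ZMod r} (h : P → a = b) : ib r P * a = ib r P * b := by
  by_cases hP : P
  · rw [h hP]
  · rw [ib_false hP, zero_mul, zero_mul]

end Ib

section Sums

variable [Fintype C] {r : ℕ} (hq : PanMod Δ r)

include hq

theorem sum_adj (i : I) (p : C) : ∑ y, ib r (Δ.δ p y = cs.simple i) = 0 := by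
  classical
  have h1 : ((Nat.card (Δ.Pan i p) : ℕ) : ZMod r) = ∑ y, ib r (y ∈ Δ.Pan i p) := by
    rw [Nat.card_eq_fintype_card, Fintype.card_subtype, Finset.card_eq_sum_ones, Nat.cast_sum, Finset.sum_filter]
    refine Finset.sum_congr rfl fun y _ => ?_
    by_cases h : y ∈ Δ.Pan i p
    · rw [if_pos h, ib_true h, Nat.cast_one]
    · rw [if_neg h, ib_false h]
  have h2 : ∑ y, ib r (y ∈ Δ.Pan i p) = ∑ y, (ib r (y = p) + ib r (Δ.δ p y = cs.simple i)) := by
    refine Finset.sum_congr rfl fun y _ => ?_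
    by_cases h : y = p
    · subst h
      rw [ib_true (Δ.self_mem_Pan i y), ib_true rfl, ib_false, add_zero]
      exact fun h' => Δ.ne_of_δ_simple h' rfl
    · rw [ib_false h, zero_add]
      refine ib_congr ⟨fun h' => h'.resolve_left h, Or.inr⟩
  have h3 : ∑ y, ib r (y = p) = 1 := by
    rw [Finset.sum_eq_single p]
    · exact ib_true rfl
    · exact fun y _ hy => ib_false hy
    · exact fun h => absurd (Finset.mem_univ p) h
  rw [Finset.sum_add_distrib, h3] at h2
  have h4 := hq i p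
  rw [h1, h2] at h4
  exact left_eq_add.1 h4.symm

theorem sum_sphere (x : C) {v : W} (hv : v ≠ 1) : ∑ y, ib r (Δ.δ x y = v) = 0 := by
  obtain ⟨i, hi⟩ := cs.exists_rightDescent_of_ne_one hv
  rw [cs.isRightDescent_iff] at hi
  have hv' : v = v * cs.simple i * cs.simple i := by rw [cs.simple_mul_simple_cancel_right]
  have h1 : ∀ y, ib r (Δ.δ x y = v) =
      ∑ p, ib r (Δ.δ x p = v * cs.simple i) * ib r (Δ.δ p y = cs.simple i) := by
    intro y
    by_cases hy : Δ.δ x y = v
    · obtain ⟨z, hz, hz'⟩ := Δ.exists_step x y i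
      rw [hy] at hz'
      rw [ib_true hy, Finset.sum_eq_single z]
      · rw [ib_true hz', ib_true (Δ.δ_symm_simple hz), mul_one]
      · intro p _ hp
        rw [← ib_and, ib_false]
        rintro ⟨h1, h2⟩
        apply hp
        refine Δ.between_unique (x := x) (z := y) (v := v * cs.simple i) (w := cs.simple i) ?_ h1 h2 hz'
          (Δ.δ_symm_simple hz)
        rw [← hv', cs.length_simple]
        omega
      · exact fun h => absurd (Finset.mem_univ z) h
    · rw [ib_false hy]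
      symm
      refine Finset.sum_eq_zero fun p _ => ?_
      rw [← ib_and, ib_false]
      rintro ⟨h1, h2⟩
      apply hy
      rw [Δ.step_lt x p y i h2, h1, ← hv']
      rw [h1, ← hv']
      omega
  calc ∑ y, ib r (Δ.δ x y = v)
      = ∑ y, ∑ p, ib r (Δ.δ x p = v * cs.simple i) * ib r (Δ.δ p y = cs.simple i) :=
        Finset.sum_congr rfl fun y _ => h1 y
    _ = ∑ p, ∑ y, ib r (Δ.δ x p = v * cs.simple i) * ib r (Δ.δ p y = cs.simple i) := Finset.sum_comm
    _ = 0 := by
        refine Finset.sum_eq_zero fun p _ => ?_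
        rw [← Finset.mul_sum, sum_adj Δ hq i p, mul_zero]

/-- Functions of the distance. -/
theorem sum_δ (x : C) (F : W → ZMod r) : ∑ y, F (Δ.δ x y) = F 1 := by
  classical
  have h1 : ∀ y, F (Δ.δ x y) = ∑ v ∈ Finset.univ.image (Δ.δ x), F v * ib r (Δ.δ x y = v) := by
    intro y
    rw [Finset.sum_eq_single (Δ.δ x y)]
    · rw [ib_true rfl, mul_one]
    · intro v _ hv
      rw [ib_false fun h => hv h.symm, mul_zero]
    · exact fun h => absurd (Finset.mem_image_of_mem _ (Finset.mem_univ y)) h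
  calc ∑ y, F (Δ.δ x y) = ∑ y, ∑ v ∈ Finset.univ.image (Δ.δ x), F v * ib r (Δ.δ x y = v) :=
        Finset.sum_congr rfl fun y _ => h1 y
    _ = ∑ v ∈ Finset.univ.image (Δ.δ x), ∑ y, F v * ib r (Δ.δ x y = v) := Finset.sum_comm
    _ = ∑ v ∈ Finset.univ.image (Δ.δ x), F v * ∑ y, ib r (Δ.δ x y = v) :=
        Finset.sum_congr rfl fun v _ => (Finset.mul_sum _ _ _).symm
    _ = F 1 := by
        rw [Finset.sum_eq_single 1]
        · have h2 : ∑ y, ib r (Δ.δ x y = 1) = 1 := by
            rw [Finset.sum_eq_single x]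
            · exact ib_true (Δ.δ_self x)
            · exact fun y _ hy => ib_false fun h => hy (Δ.eq_of_δ_eq_one h).symm
            · exact fun h => absurd (Finset.mem_univ x) h
          rw [h2, mul_one]
        · intro v _ hv
          rw [sum_sphere Δ hq x hv, mul_zero]
        · intro h
          exfalso
          exact h (Finset.mem_image.2 ⟨x, Finset.mem_univ x, Δ.δ_self x⟩)

theorem card_eq : ((Fintype.card C : ℕ) : ZMod r) = 1 ∨ IsEmpty C := by
  rcases isEmpty_or_nonempty C with h | ⟨⟨x⟩⟩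
  · exact Or.inr h
  · left
    have := sum_δ Δ hq x fun _ => 1
    rwa [Finset.sum_const, Finset.card_univ, nsmul_eq_mul, mul_one] at this

/-- Functions of the distance on a residue: only the projection counts. -/
theorem sum_Res (J : Set I) (x u : C) (Q : W → Prop) :
    ∑ y, ib r (y ∈ Δ.Res J x) * ib r (Q (Δ.δ u y)) = ib r (Q (Δ.δ u (Δ.proj J x u))) := by
  have h1 : ∀ y, ib r (y ∈ Δ.Res J x) * ib r (Q (Δ.δ u y)) =
      (fun v => ib r (v ∈ WJ cs J) * ib r (Q (Δ.δ u (Δ.proj J x u) * v))) (Δ.δ (Δ.proj J x u) y) := by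
    intro y
    have h2 : y ∈ Δ.Res J x ↔ Δ.δ (Δ.proj J x u) y ∈ WJ cs J := by
      rw [← Δ.Res_eq_of_mem (Δ.proj_mem J x u), Δ.mem_Res]
    change _ = ib r (Δ.δ (Δ.proj J x u) y ∈ WJ cs J) * _
    rw [← ib_congr h2]
    refine ib_mul_congr fun h => ?_
    rw [Δ.δ_proj_mul h]
  rw [Finset.sum_congr rfl fun y _ => h1 y]
  have h3 := sum_δ Δ hq (Δ.proj J x u) fun v => ib r (v ∈ WJ cs J) * ib r (Q (Δ.δ u (Δ.proj J x u) * v))
  refine h3.trans ?_
  rw [ib_true (one_mem _), one_mul, mul_one]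

theorem sum_Res_one (J : Set I) (x : C) : ∑ y, ib r (y ∈ Δ.Res J x) = 1 := by
  have h1 := sum_Res Δ hq J x x fun _ => True
  have h2 : ∀ y, ib r (y ∈ Δ.Res J x) * ib r True = ib r (y ∈ Δ.Res J x) := fun y => by
    rw [ib_true (P := True) trivial, mul_one]
  rw [Finset.sum_congr rfl fun y _ => h2 y] at h1
  rw [h1, ib_true (P := True) trivial]

omit hq [Fintype C] in
theorem inter_eq (hinj : Function.Injective cs.simple) {J K : Set I} {x y b : C} (h : b ∈ Δ.Res J x)
    (h' : b ∈ Δ.Res K y) (a : C) : (a ∈ Δ.Res J x ∧ a ∈ Δ.Res K y) ↔ a ∈ Δ.Res (J ∩ K) b := by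
  rw [← Δ.Res_eq_of_mem h, ← Δ.Res_eq_of_mem h']
  constructor
  · rintro ⟨h1, h2⟩
    exact Cfsg.Agent.Tits.Ext.WJ_inter hinj h1 h2
  · exact fun h1 => ⟨Δ.Res_mono Set.inter_subset_left b h1, Δ.Res_mono Set.inter_subset_right b h1⟩

/-- The number of common chambers of two residues. -/
theorem sum_inter (hinj : Function.Injective cs.simple) (J K : Set I) (x y : C) :
    ∑ a, ib r (a ∈ Δ.Res J x) * ib r (a ∈ Δ.Res K y) = ib r (∃ b, b ∈ Δ.Res J x ∧ b ∈ Δ.Res K y) := by
  by_cases hb : ∃ b, b ∈ Δ.Res J x ∧ b ∈ Δ.Res K y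
  · rw [ib_true hb]
    obtain ⟨b, h, h'⟩ := hb
    rw [← sum_Res_one Δ hq (J ∩ K) b]
    refine Finset.sum_congr rfl fun a _ => ?_
    rw [← ib_and]
    exact ib_congr (inter_eq Δ hinj h h' a)
  · rw [ib_false hb]
    refine Finset.sum_eq_zero fun a _ => ?_
    rw [← ib_and]
    exact ib_false fun h => hb ⟨a, h⟩

/-- The `K`-residue of `x` meets the `L`-residue of `y`. -/
def Meet (K L : Set I) (x y : C) : Prop := ∃ b, b ∈ Δ.Res K x ∧ b ∈ Δ.Res L y

omit hq [Fintype C] in
theorem meet_iff {K L : Set I} {x y : C} : Meet Δ K L x y ↔ ∃ a ∈ WJ cs K, ∃ b ∈ WJ cs L, Δ.δ x y = a * b := by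
  constructor
  · rintro ⟨z, h1, h2⟩
    obtain ⟨t, ht, e⟩ := Δ.exists_mul_of_mem (J := L) x (Δ.mem_Res_symm h2)
    exact ⟨_, h1, t, ht, e⟩
  · rintro ⟨a, ha, b, hb, e⟩
    obtain ⟨z, hz, e'⟩ := Δ.exists_δ_mul_mem_Res (x := y) (y := y) x (Δ.self_mem_Res L y) (inv_mem hb)
    refine ⟨z, ?_, hz⟩
    rw [Δ.mem_Res, e', e, mul_assoc, mul_inv_cancel, mul_one]
    exact ha

omit hq [Fintype C] in
theorem meet_congr {K L : Set I} {x y y' : C} (h : y' ∈ Δ.Res L y) : Meet Δ K L x y' ↔ Meet Δ K L x y := by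
  unfold Meet
  rw [Δ.Res_eq_of_mem h]

theorem sum_meet_right (hinj : Function.Injective cs.simple) (K L : Set I) (x : C) :
    ∑ y, ib r (Meet Δ K L x y) = 1 := by
  calc ∑ y, ib r (Meet Δ K L x y)
      = ∑ y, ∑ a, ib r (a ∈ Δ.Res K x) * ib r (a ∈ Δ.Res L y) :=
        Finset.sum_congr rfl fun y _ => (sum_inter Δ hq hinj K L x y).symm
    _ = ∑ a, ∑ y, ib r (a ∈ Δ.Res K x) * ib r (a ∈ Δ.Res L y) := Finset.sum_comm
    _ = ∑ a, ib r (a ∈ Δ.Res K x) := by
        refine Finset.sum_congr rfl fun a _ => ?_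
        rw [← Finset.mul_sum]
        have : ∑ y, ib r (a ∈ Δ.Res L y) = ∑ y, ib r (y ∈ Δ.Res L a) :=
          Finset.sum_congr rfl fun y _ => ib_congr Δ.mem_Res_comm
        rw [this, sum_Res_one Δ hq, mul_one]
    _ = 1 := sum_Res_one Δ hq K x

theorem sum_meet_left (hinj : Function.Injective cs.simple) (K L : Set I) (y : C) :
    ∑ x, ib r (Meet Δ K L x y) = 1 := by
  have : ∀ x, ib r (Meet Δ K L x y) = ib r (Meet Δ L K y x) := fun x =>
    ib_congr ⟨fun ⟨b, h, h'⟩ => ⟨b, h', h⟩, fun ⟨b, h, h'⟩ => ⟨b, h', h⟩⟩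
  rw [Finset.sum_congr rfl fun x _ => this x]
  exact sum_meet_right Δ hq hinj L K y

/-- Composition of two incidence relations. -/
theorem sum_comp (hinj : Function.Injective cs.simple) {K L N : Set I}
    (hW : ∀ w, IsMinR cs N w → ∃ a ∈ WJ cs K, ∃ b ∈ WJ cs L, w = a * b) (x z : C) :
    ∑ y, ib r (Meet Δ K L x y) * ib r (Meet Δ L N y z) = 1 := by
  calc ∑ y, ib r (Meet Δ K L x y) * ib r (Meet Δ L N y z)
      = ∑ y, ∑ b, ib r (Meet Δ K L x y) * (ib r (b ∈ Δ.Res L y) * ib r (b ∈ Δ.Res N z)) := by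
        refine Finset.sum_congr rfl fun y _ => ?_
        rw [← Finset.mul_sum, sum_inter Δ hq hinj]
        rfl
    _ = ∑ b, ∑ y, ib r (Meet Δ K L x y) * (ib r (b ∈ Δ.Res L y) * ib r (b ∈ Δ.Res N z)) := Finset.sum_comm
    _ = ∑ b, ib r (b ∈ Δ.Res N z) * ib r (Meet Δ K L x b) := by
        refine Finset.sum_congr rfl fun b _ => ?_
        have h1 : ∀ y, ib r (Meet Δ K L x y) * (ib r (b ∈ Δ.Res L y) * ib r (b ∈ Δ.Res N z)) =
            (ib r (b ∈ Δ.Res N z) * ib r (Meet Δ K L x b)) * ib r (y ∈ Δ.Res L b) := by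
          intro y
          by_cases h : b ∈ Δ.Res L y
          · rw [ib_true h, ib_true (Δ.mem_Res_symm h), one_mul, mul_one, mul_comm,
              ib_congr (meet_congr Δ (K := K) (x := x) h)]
          · rw [ib_false h, ib_false fun h' => h (Δ.mem_Res_symm h'), zero_mul, mul_zero, mul_zero]
        rw [Finset.sum_congr rfl fun y _ => h1 y, ← Finset.mul_sum, sum_Res_one Δ hq, mul_one]
    _ = 1 := by
        have h2 : ∀ b, ib r (b ∈ Δ.Res N z) * ib r (Meet Δ K L x b) =
            ib r (b ∈ Δ.Res N z) * ib r ((fun w => ∃ a ∈ WJ cs K, ∃ b ∈ WJ cs L, w = a * b) (Δ.δ x b)) :=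
          fun b => by rw [ib_congr (meet_iff Δ)]
        rw [Finset.sum_congr rfl fun b _ => h2 b]
        refine (sum_Res Δ hq N z x fun w => ∃ a ∈ WJ cs K, ∃ b ∈ WJ cs L, w = a * b).trans ?_
        exact ib_true (hW _ (Δ.isMinR_δ_proj N z x))

/-- **Absolute residues.** -/
theorem exists_meet [hr : Fact r.Prime] [Nonempty C] (hinj : Function.Injective cs.simple) {K L N : Set I}
    (hW : ∀ w, IsMinR cs N w → ∃ a ∈ WJ cs K, ∃ b ∈ WJ cs L, w = a * b) (θ : C ≃ C)
    (hKL : ∀ x y, θ y ∈ Δ.Res L (θ x) ↔ y ∈ Δ.Res K x) (hLN : ∀ x y, θ y ∈ Δ.Res N (θ x) ↔ y ∈ Δ.Res L x) :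
    ∃ x, Meet Δ K L x (θ x) := by
  classical
  by_contra hno
  push Not at hno
  let A : Matrix C C (ZMod r) := fun x y => ib r (Meet Δ K L x (θ y))
  let J : Matrix C C (ZMod r) := fun _ _ => 1
  have hmeet : ∀ x y, Meet Δ K L x y ↔ Meet Δ L N (θ x) (θ y) := by
    intro x y
    constructor
    · rintro ⟨b, h1, h2⟩
      exact ⟨θ b, (hKL x b).2 h1, (hLN y b).2 h2⟩
    · rintro ⟨b, h1, h2⟩
      obtain ⟨b, rfl⟩ := θ.surjective b
      exact ⟨b, (hKL x b).1 h1, (hLN y b).1 h2⟩
  have hAA : A * A = J := by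
    ext x z
    rw [Matrix.mul_apply]
    change ∑ y, ib r (Meet Δ K L x (θ y)) * ib r (Meet Δ K L y (θ z)) = 1
    have h1 : ∀ y, ib r (Meet Δ K L x (θ y)) * ib r (Meet Δ K L y (θ z)) =
        (fun y => ib r (Meet Δ K L x y) * ib r (Meet Δ L N y (θ (θ z)))) (θ y) := fun y => by
      rw [ib_congr (hmeet y (θ z))]
    rw [Finset.sum_congr rfl fun y _ => h1 y]
    exact (Equiv.sum_comp θ fun y => ib r (Meet Δ K L x y) * ib r (Meet Δ L N y (θ (θ z)))).trans
      (sum_comp Δ hq hinj hW x (θ (θ z)))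
  have hAJ : A * J = J := by
    ext x z
    rw [Matrix.mul_apply]
    change ∑ y, ib r (Meet Δ K L x (θ y)) * 1 = 1
    rw [Finset.sum_congr rfl fun y _ => mul_one _, Equiv.sum_comp θ fun y => ib r (Meet Δ K L x y)]
    exact sum_meet_right Δ hq hinj K L x
  have hJA : J * A = J := by
    ext x z
    rw [Matrix.mul_apply]
    change ∑ y, 1 * ib r (Meet Δ K L y (θ z)) = 1
    rw [Finset.sum_congr rfl fun y _ => one_mul _]
    exact sum_meet_left Δ hq hinj K L (θ z)
  have hc : ((Fintype.card C : ℕ) : ZMod r) = 1 := by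
    rcases card_eq Δ hq with h | h
    · exact h
    · exact (h.false (Classical.arbitrary C)).elim
  have hJJ : J * J = J := by
    ext x z
    rw [Matrix.mul_apply]
    change ∑ y : C, (1 : ZMod r) * 1 = 1
    rw [Finset.sum_const, Finset.card_univ, nsmul_eq_mul, mul_one, mul_one, hc]
  have hN : IsNilpotent (A - J) := by
    refine ⟨2, ?_⟩
    rw [pow_two, sub_mul, mul_sub, mul_sub, hAA, hAJ, hJA, hJJ, sub_self]
  have htr := (Matrix.isNilpotent_trace_of_isNilpotent hN).eq_zero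
  rw [Matrix.trace_sub] at htr
  have hA : Matrix.trace A = 0 := Finset.sum_eq_zero fun x _ => ib_false (hno x)
  have hJ : Matrix.trace J = 1 := by
    change ∑ x : C, (1 : ZMod r) = 1
    rw [Finset.sum_const, Finset.card_univ, nsmul_eq_mul, mul_one, hc]
  rw [hA, hJ, zero_sub, neg_eq_zero] at htr
  exact one_ne_zero htr

end Sums

/-! ### pairwise meeting residues -/

theorem prefix_mem {K : Set I} {v w : W} (h : v * w ∈ WJ cs K) (hl : ℓ (v * w) = ℓ v + ℓ w) : v ∈ WJ cs K := by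
  generalize hn : ℓ v = n at hl
  induction n generalizing v with
  | zero =>
    rw [cs.length_eq_zero_iff] at hn
    rw [hn]
    exact one_mem _
  | succ n ih =>
    have hne : v ≠ 1 := fun h1 => by rw [h1, cs.length_one] at hn; omega
    obtain ⟨i, hi⟩ := cs.exists_leftDescent_of_ne_one hne
    rw [cs.isLeftDescent_iff] at hi
    have h1 := cs.length_mul_simple (v * w)⁻¹ i
    have h2 : ℓ ((v * w)⁻¹ * cs.simple i) = ℓ (cs.simple i * v * w) := by
      rw [← cs.length_inv, mul_inv_rev, inv_inv, cs.inv_simple, mul_assoc]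
    have h3 := cs.length_mul_le (cs.simple i * v) w
    have h4 : cs.IsRightInversion (v * w)⁻¹ (cs.simple i) := by
      refine ⟨cs.isReflection_simple i, ?_⟩
      rw [h2, cs.length_inv]
      omega
    have h5 : cs.simple i ∈ WJ cs K :=
      mem_WJ_of_nn cs (inv_mem h) ((nn_eq_one_iff_isRightInversion cs (cs.isReflection_simple i)).2 h4)
    have h6 : cs.simple i * v ∈ WJ cs K := by
      refine ih (v := cs.simple i * v) ?_ (by omega) ?_
      · rw [mul_assoc]
        exact mul_mem h5 h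
      · have h7 : ℓ (v * w) ≤ ℓ (cs.simple i * v * w) + 1 := by
          have := cs.length_simple_mul (v * w) i
          rw [mul_assoc]
          omega
        omega
    have h8 : v = cs.simple i * (cs.simple i * v) := by rw [cs.simple_mul_simple_cancel_left]
    rw [h8]
    exact mul_mem h5 h6

/-- If `Res K x` meets `Res N y` then the projection of a chamber of `Res K x` on `Res N y` lies in `Res K x`. -/
theorem proj_mem {K N : Set I} {x y u : C} (hu : u ∈ Δ.Res K x) (h : Meet Δ K N x y) :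
    Δ.proj N y u ∈ Δ.Res K x := by
  obtain ⟨z, h1, h2⟩ := h
  have h3 : Δ.δ u z ∈ WJ cs K := Δ.δ_mem_of_mem_Res hu h1
  have h4 := Δ.δ_proj_mul (u := u) h2
  have h5 := Δ.length_proj_add (u := u) h2
  rw [h4] at h3 h5
  exact Δ.mem_Res_trans hu (prefix_mem h3 h5)

end Cfsg.Agent.BpTri
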