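import Mathlib
import Cfsg.Agent.BpTri.Count
import Cfsg.Agent.Nodes.RGDChev
import Cfsg.Agent.Tits.OfBN

-- merged: Cfsg.Agent.BpTri.DFour
section

/-!
# The Weyl group of type `D₄` (S1332, triality)

`a, b, c` the outer nodes, `e` the central node.

* `Lst` : the eight elements of minimal length in the right cosets of `W_{I - c}`;
* `cover` : they all lie in `W_{I - a} W_{I - b}`;
* `exists_panel` : a triality automorphism of a building of type `D₄` stabilises a panel of type `e`.
-/

set_option autoImplicit false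

open Cfsg.Agent.Tits.Exchange Cfsg.Agent.Tits.Core Cfsg.Agent.Tits.Core.Bldg

namespace Cfsg.Agent.BpTri

section Words

variable {G : Type*} [Group G]

/-- Relations of type `D₄`. -/
structure Rel4 (A E B D : G) : Prop where
  aa : A * A = 1
  ee : E * E = 1
  bb : B * B = 1
  dd : D * D = 1
  ab : A * B = B * A
  ad : A * D = D * A
  bd : B * D = D * B
  ae : A * (E * A) = E * (A * E)
  be : B * (E * B) = E * (B * E)
  de : D * (E * D) = E * (D * E)

/-- The minimal coset representatives. -/
def Lst (A E B D w : G) : Prop :=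
  w = 1 ∨ w = D ∨ w = E * D ∨ w = A * (E * D) ∨ w = B * (E * D) ∨ w = A * (B * (E * D)) ∨
    w = E * (A * (B * (E * D))) ∨ w = D * (E * (A * (B * (E * D))))

variable {A E B D : G} (h : Rel4 A E B D)

include h

theorem Rel4.aa' (x : G) : A * (A * x) = x := by rw [← mul_assoc, h.aa, one_mul]

theorem Rel4.ee' (x : G) : E * (E * x) = x := by rw [← mul_assoc, h.ee, one_mul]

theorem Rel4.bb' (x : G) : B * (B * x) = x := by rw [← mul_assoc, h.bb, one_mul]

theorem Rel4.dd' (x : G) : D * (D * x) = x := by rw [← mul_assoc, h.dd, one_mul]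

theorem Rel4.ab' (x : G) : A * (B * x) = B * (A * x) := by rw [← mul_assoc, h.ab, mul_assoc]

theorem Rel4.ad' (x : G) : A * (D * x) = D * (A * x) := by rw [← mul_assoc, h.ad, mul_assoc]

theorem Rel4.bd' (x : G) : B * (D * x) = D * (B * x) := by rw [← mul_assoc, h.bd, mul_assoc]

theorem Rel4.ae' (x : G) : A * (E * (A * x)) = E * (A * (E * x)) := by
  have := congrArg (· * x) h.ae
  simpa only [mul_assoc] using this

theorem Rel4.be' (x : G) : B * (E * (B * x)) = E * (B * (E * x)) := by
  have := congrArg (· * x) h.be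
  simpa only [mul_assoc] using this

theorem Rel4.de' (x : G) : D * (E * (D * x)) = E * (D * (E * x)) := by
  have := congrArg (· * x) h.de
  simpa only [mul_assoc] using this

/-- multiplication by `A` -/
theorem step_A {w : G} (hw : Lst A E B D w) : Lst A E B D (A * w) ∨ A * w = w * A ∨ A * w = w * E ∨ A * w = w * B := by
  rcases hw with rfl | rfl | rfl | rfl | rfl | rfl | rfl | rfl
  · right; left; rw [mul_one, one_mul]
  · right; left; exact h.ad
  · left; right; right; right; left; rfl
  · left; right; right; left; exact h.aa' _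
  · left; right; right; right; right; right; left; rfl
  · left; right; right; right; right; left; exact h.aa' _
  · right; right; right
    simp only [mul_assoc]
    rw [h.ae', ← h.be', h.bd]
  · right; right; right
    simp only [mul_assoc]
    rw [h.ad', h.ae', ← h.be', h.bd]

/-- multiplication by `B` -/
theorem step_B {w : G} (hw : Lst A E B D w) : Lst A E B D (B * w) ∨ B * w = w * A ∨ B * w = w * E ∨ B * w = w * B := by
  rcases hw with rfl | rfl | rfl | rfl | rfl | rfl | rfl | rfl
  · right; right; right; rw [mul_one, one_mul]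
  · right; right; right; exact h.bd
  · left; right; right; right; right; left; rfl
  · left; right; right; right; right; right; left; exact (h.ab' _).symm
  · left; right; right; left; exact h.bb' _
  · left; right; right; right; left; rw [← h.ab', h.bb']
  · right; left
    simp only [mul_assoc]
    rw [h.ab' (E * D), h.be', ← h.ae', h.ad, ← h.ab']
  · right; left
    simp only [mul_assoc]
    rw [h.bd', h.ab' (E * D), h.be', ← h.ae', h.ad, ← h.ab']

/-- multiplication by `E` -/
theorem step_E {w : G} (hw : Lst A E B D w) : Lst A E B D (E * w) ∨ E * w = w * A ∨ E * w = w * E ∨ E * w = w * B := by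
  rcases hw with rfl | rfl | rfl | rfl | rfl | rfl | rfl | rfl
  · right; right; left; rw [mul_one, one_mul]
  · left; right; right; left; rfl
  · left; right; left; exact h.ee' _
  · right; left
    simp only [mul_assoc]
    rw [← h.ae', h.ad]
  · right; right; right
    simp only [mul_assoc]
    rw [← h.be', h.bd]
  · left; right; right; right; right; right; right; left; rfl
  · left; right; right; right; right; right; left; exact h.ee' _
  · right; right; left
    simp only [mul_assoc]
    rw [← h.de', ← h.ad', ← h.bd', h.de]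

/-- multiplication by `D` -/
theorem step_D {w : G} (hw : Lst A E B D w) : Lst A E B D (D * w) ∨ D * w = w * A ∨ D * w = w * E ∨ D * w = w * B := by
  rcases hw with rfl | rfl | rfl | rfl | rfl | rfl | rfl | rfl
  · left; right; left; exact mul_one _
  · left; left; exact h.dd
  · right; right; left
    rw [h.de, mul_assoc]
  · right; right; left
    simp only [mul_assoc]
    rw [← h.ad', h.de]
  · right; right; left
    simp only [mul_assoc]
    rw [← h.bd', h.de]
  · right; right; left
    simp only [mul_assoc]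
    rw [← h.ad', ← h.bd', h.de]
  · left; right; right; right; right; right; right; right; rfl
  · left; right; right; right; right; right; right; left; exact h.dd' _

end Words

variable {I : Type*} {M : CoxeterMatrix I} {W : Type*} [Group W] {cs : CoxeterSystem M W}

local prefix:100 "ℓ" => cs.length

/-- The nodes of a diagram of type `D₄`. -/
structure Nodes4 (cs : CoxeterSystem M W) (a e b c : I) : Prop where
  cov : ∀ i, i = a ∨ i = e ∨ i = b ∨ i = c
  ab : a ≠ b
  ac : a ≠ c
  ae : a ≠ e
  bc : b ≠ c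
  be : b ≠ e
  ce : c ≠ e
  rel : Rel4 (cs.simple a) (cs.simple e) (cs.simple b) (cs.simple c)

variable {a e b c : I}

theorem lst_of_isMinR (n : Nodes4 cs a e b c) {w : W} (hw : IsMinR cs {i | i ≠ c} w) :
    Lst (cs.simple a) (cs.simple e) (cs.simple b) (cs.simple c) w := by
  generalize hn : ℓ w = m
  induction m generalizing w with
  | zero =>
    left
    exact cs.length_eq_zero_iff.1 hn
  | succ m ih =>
    have hne : w ≠ 1 := fun h1 => by rw [h1, cs.length_one] at hn; omega
    obtain ⟨i, hi⟩ := cs.exists_leftDescent_of_ne_one hne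
    rw [cs.isLeftDescent_iff] at hi
    have h1 : IsMinR cs {i | i ≠ c} (cs.simple i * w) := by
      intro u hu
      have h2 := hw u hu
      have h3 := cs.length_mul_le (cs.simple i * w) u
      have h4 := cs.length_simple_mul (w * u) i
      rw [← mul_assoc] at h4
      omega
    have h2 := ih h1 (by omega)
    have h3 : w = cs.simple i * (cs.simple i * w) := by rw [cs.simple_mul_simple_cancel_left]
    have h4 : ∀ j, j ≠ c → w = (cs.simple i * w) * cs.simple j → False := by
      intro j hj h5
      have h6 := hw (cs.simple j) (simple_mem_WJ cs hj)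
      have h7 : w * cs.simple j = cs.simple i * w := by
        conv_lhs => rw [h5]
        rw [cs.simple_mul_simple_cancel_right]
      rw [h7, cs.length_simple] at h6
      omega
    have h5 : Lst (cs.simple a) (cs.simple e) (cs.simple b) (cs.simple c) (cs.simple i * (cs.simple i * w)) ∨
        cs.simple i * (cs.simple i * w) = (cs.simple i * w) * cs.simple a ∨
        cs.simple i * (cs.simple i * w) = (cs.simple i * w) * cs.simple e ∨
        cs.simple i * (cs.simple i * w) = (cs.simple i * w) * cs.simple b := by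
      rcases n.cov i with rfl | rfl | rfl | rfl
      · exact step_A n.rel h2
      · exact step_E n.rel h2
      · exact step_B n.rel h2
      · exact step_D n.rel h2
    rw [← h3] at h5
    rcases h5 with h5 | h5 | h5 | h5
    · exact h5
    · exact (h4 a n.ac h5).elim
    · exact (h4 e n.ce.symm h5).elim
    · exact (h4 b n.bc h5).elim

theorem cover (n : Nodes4 cs a e b c) (w : W) (hw : IsMinR cs {i | i ≠ c} w) :
    ∃ x ∈ WJ cs {i | i ≠ a}, ∃ y ∈ WJ cs {i | i ≠ b}, w = x * y := by
  have eK : cs.simple e ∈ WJ cs {i | i ≠ a} := simple_mem_WJ cs n.ae.symm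
  have bK : cs.simple b ∈ WJ cs {i | i ≠ a} := simple_mem_WJ cs n.ab.symm
  have cK : cs.simple c ∈ WJ cs {i | i ≠ a} := simple_mem_WJ cs n.ac.symm
  have eL : cs.simple e ∈ WJ cs {i | i ≠ b} := simple_mem_WJ cs n.be.symm
  have aL : cs.simple a ∈ WJ cs {i | i ≠ b} := simple_mem_WJ cs n.ab
  have cL : cs.simple c ∈ WJ cs {i | i ≠ b} := simple_mem_WJ cs n.bc.symm
  have key : cs.simple a * (cs.simple e * cs.simple c) ∈ WJ cs {i | i ≠ b} := mul_mem aL (mul_mem eL cL)
  rcases lst_of_isMinR n hw with rfl | rfl | rfl | rfl | rfl | rfl | rfl | rfl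
  · exact ⟨1, one_mem _, 1, one_mem _, (mul_one 1).symm⟩
  · exact ⟨_, cK, 1, one_mem _, (mul_one _).symm⟩
  · exact ⟨_, mul_mem eK cK, 1, one_mem _, (mul_one _).symm⟩
  · exact ⟨1, one_mem _, _, key, (one_mul _).symm⟩
  · exact ⟨_, mul_mem bK (mul_mem eK cK), 1, one_mem _, (mul_one _).symm⟩
  · exact ⟨_, bK, _, key, n.rel.ab' _⟩
  · refine ⟨_, mul_mem eK bK, _, key, ?_⟩
    rw [n.rel.ab', mul_assoc]
  · refine ⟨_, mul_mem cK (mul_mem eK bK), _, key, ?_⟩
    rw [n.rel.ab', mul_assoc, mul_assoc]

/-- **Trialities stabilise a panel of central type.** -/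
theorem exists_panel {C : Type*} [Fintype C] [Nonempty C] (Δ : Bldg cs C) {r : ℕ} [Fact r.Prime]
    (hq : PanMod Δ r) (hinj : Function.Injective cs.simple) (n : Nodes4 cs a e b c) (θ : C ≃ C)
    (h1 : ∀ x y, θ y ∈ Δ.Res {i | i ≠ b} (θ x) ↔ y ∈ Δ.Res {i | i ≠ a} x)
    (h2 : ∀ x y, θ y ∈ Δ.Res {i | i ≠ c} (θ x) ↔ y ∈ Δ.Res {i | i ≠ b} x)
    (h3 : ∀ x y, θ y ∈ Δ.Res {i | i ≠ a} (θ x) ↔ y ∈ Δ.Res {i | i ≠ c} x) (hθ : ∀ x, θ (θ (θ x)) = x) :
    ∃ x, θ x ∈ Δ.Res {e} x := by
  obtain ⟨x, hx⟩ := exists_meet Δ hq hinj (cover n) θ h1 h2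
  -- `Res (I - a) x` meets `Res (I - b) (θ x)`; apply `θ` twice
  have hx1 : Meet Δ {i | i ≠ b} {i | i ≠ c} (θ x) (θ (θ x)) := by
    obtain ⟨z, hz, hz'⟩ := hx
    exact ⟨θ z, (h1 x z).2 hz, (h2 _ z).2 hz'⟩
  have hx2 : Meet Δ {i | i ≠ c} {i | i ≠ a} (θ (θ x)) x := by
    obtain ⟨z, hz, hz'⟩ := hx1
    have h4 := (h3 _ z).2 hz'
    rw [hθ] at h4
    exact ⟨θ z, (h2 _ z).2 hz, h4⟩
  obtain ⟨z, hz, hz'⟩ := hx
  have hx3 : Meet Δ {i | i ≠ a} {i | i ≠ c} x (θ (θ x)) := by
    obtain ⟨z, hz, hz'⟩ := hx2
    exact ⟨z, hz', hz⟩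
  -- the common chamber
  have g1 := proj_mem Δ (u := z) hz hx3
  have g2 := proj_mem Δ (u := z) hz' hx1
  have g3 := Δ.proj_mem {i | i ≠ c} (θ (θ x)) z
  set g := Δ.proj {i | i ≠ c} (θ (θ x)) z with hg
  -- its image lies in the three residues too
  have k1 : θ g ∈ Δ.Res {i | i ≠ b} (θ x) := (h1 x g).2 g1
  have k2 : θ g ∈ Δ.Res {i | i ≠ c} (θ (θ x)) := (h2 _ g).2 g2
  have k3 : θ g ∈ Δ.Res {i | i ≠ a} x := by
    have := (h3 _ g).2 g3
    rwa [hθ] at this
  refine ⟨g, ?_⟩
  have m1 : θ g ∈ Δ.Res ({i | i ≠ a} ∩ {i | i ≠ b}) g := (inter_eq Δ hinj g1 g2 (θ g)).1 ⟨k3, k1⟩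
  have m2 : θ g ∈ Δ.Res ({i | i ≠ a} ∩ {i | i ≠ c}) g := (inter_eq Δ hinj g1 g3 (θ g)).1 ⟨k3, k2⟩
  have m3 : Δ.δ g (θ g) ∈ WJ cs (({i | i ≠ a} ∩ {i | i ≠ b}) ∩ ({i | i ≠ a} ∩ {i | i ≠ c})) :=
    Cfsg.Agent.Tits.Ext.WJ_inter hinj m1 m2
  rw [Δ.mem_Res]
  refine WJ_mono cs ?_ m3
  rintro i ⟨⟨i1, i2⟩, -, i3⟩
  rcases n.cov i with h | h | h | h
  · exact (i1 h).elim
  · exact h
  · exact (i2 h).elim
  · exact (i3 h).elim

end Cfsg.Agent.BpTri

end

-- merged: Cfsg.Agent.BpTri.Nodes
section

/-!
# The nodes of type `D₄` (S1332, triality)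

* `Nodes4.cycle` : an automorphism of order three of the diagram is a rotation fixing the central node;
* `nodes4_D4` : the Coxeter system of `coxeterD4`;
* `nodes4_bn` : transfer to the Weyl group of the (B, N)-pair of a root group datum.
-/

set_option autoImplicit false
set_option linter.unusedSectionVars false

namespace Cfsg.Agent.BpTri

open Cfsg.Agent.Tits.Core Cfsg.Agent.Tits.Core.Bldg Cfsg.Agent.Tits.Exchange

section Cycle

variable {I : Type*} {M : CoxeterMatrix I} {W : Type*} [Group W] {cs : CoxeterSystem M W} {a e b c : I}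

theorem Nodes4.swap (n : Nodes4 cs a e b c) : Nodes4 cs a e c b where
  cov i := by
    rcases n.cov i with h | h | h | h
    · exact Or.inl h
    · exact Or.inr (Or.inl h)
    · exact Or.inr (Or.inr (Or.inr h))
    · exact Or.inr (Or.inr (Or.inl h))
  ab := n.ac
  ac := n.ab
  ae := n.ae
  bc := n.bc.symm
  be := n.ce
  ce := n.be
  rel := ⟨n.rel.aa, n.rel.ee, n.rel.dd, n.rel.bb, n.rel.ad, n.rel.ab, n.rel.bd.symm, n.rel.ae, n.rel.de, n.rel.be⟩

theorem Nodes4.swap' (n : Nodes4 cs a e b c) : Nodes4 cs b e a c where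
  cov i := by
    rcases n.cov i with h | h | h | h
    · exact Or.inr (Or.inr (Or.inl h))
    · exact Or.inr (Or.inl h)
    · exact Or.inl h
    · exact Or.inr (Or.inr (Or.inr h))
  ab := n.ab.symm
  ac := n.bc
  ae := n.be
  bc := n.ac
  be := n.ae
  ce := n.ce
  rel := ⟨n.rel.bb, n.rel.ee, n.rel.aa, n.rel.dd, n.rel.ab.symm, n.rel.bd, n.rel.ad, n.rel.be, n.rel.ae, n.rel.de⟩

/-- the central node does not commute with the outer nodes -/
theorem Nodes4.ne_comm (n : Nodes4 cs a e b c) (hinj : Function.Injective cs.simple) :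
    cs.simple a * cs.simple e ≠ cs.simple e * cs.simple a := by
  intro h
  apply n.ae
  apply hinj
  have h1 : cs.simple a * (cs.simple e * cs.simple a) = cs.simple e := by
    rw [← h, ← mul_assoc, n.rel.aa, one_mul]
  have h2 : cs.simple e * (cs.simple a * cs.simple e) = cs.simple a := by
    rw [h, ← mul_assoc, n.rel.ee, one_mul]
  rw [← h2, ← n.rel.ae, h1]

/-- **Automorphisms of order three of the diagram.** -/
theorem Nodes4.cycle (n : Nodes4 cs a e b c) (hinj : Function.Injective cs.simple) {φ : W ≃* W} {σ : Equiv.Perm I}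
    (hφ : ∀ i, φ (cs.simple i) = cs.simple (σ i)) (h3 : ∀ i, σ (σ (σ i)) = i) (hne : ∃ i, σ i ≠ i) :
    ∃ b' c', Nodes4 cs a e b' c' ∧ σ a = b' ∧ σ b' = c' ∧ σ c' = a ∧ σ e = e := by
  -- commuting nodes
  have hcomm : ∀ {i j : I}, cs.simple i * cs.simple j = cs.simple j * cs.simple i ↔
      cs.simple (σ i) * cs.simple (σ j) = cs.simple (σ j) * cs.simple (σ i) := by
    intro i j
    rw [← hφ, ← hφ, ← map_mul, ← map_mul, φ.injective.eq_iff]
  have hA := n.ne_comm hinj
  have hB := n.swap'.ne_comm hinj
  have hC := n.swap.swap'.ne_comm hinj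
  -- the central node is fixed
  have hcen : ∀ i, (∀ j, j ≠ i → cs.simple j * cs.simple i ≠ cs.simple i * cs.simple j) → i = e := by
    intro i hi
    rcases n.cov i with rfl | rfl | rfl | rfl
    · exact (hi b n.ab.symm n.rel.ab.symm).elim
    · rfl
    · exact (hi a n.ab n.rel.ab).elim
    · exact (hi a n.ac n.rel.ad).elim
  have he : σ e = e := by
    apply hcen
    intro j hj
    obtain ⟨k, rfl⟩ := σ.surjective j
    have hk : k ≠ e := fun h => hj (by rw [h])
    rw [Ne, ← hcomm]
    rcases n.cov k with rfl | rfl | rfl | rfl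
    · exact hA
    · exact (hk rfl).elim
    · exact hB
    · exact hC
  -- the outer nodes
  have hout : ∀ i, i ≠ e → σ i ≠ e := fun i hi h => hi (σ.injective (h.trans he.symm))
  have hsimp : ∀ i, σ i = i → ∀ j, j ≠ i → i ≠ e → j ≠ e → σ j = j := by
    intro i hi j hji hie hje
    -- otherwise `σ` would interchange the two other nodes
    by_contra hj
    have h1 : σ j ≠ i := fun h => hji (σ.injective (h.trans hi.symm))
    have h2 := hout j hje
    have h4 : σ (σ j) ≠ σ j := fun h => hj (σ.injective h)
    have h5 : σ (σ j) ≠ i := fun h => h1 (σ.injective (h.trans hi.symm))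
    have h6 : σ (σ j) ≠ e := hout _ h2
    have h7 : σ (σ j) ≠ j := fun h => by
      have h8 := h3 j
      rw [h] at h8
      exact hj h8
    -- five different elements among four
    rcases n.cov i with rfl | rfl | rfl | rfl <;> rcases n.cov j with rfl | rfl | rfl | rfl <;>
      rcases n.cov (σ j) with h | h | h | h <;> rcases n.cov (σ (σ j)) with h' | h' | h' | h' <;>
      first
        | exact hji rfl
        | exact hie rfl
        | exact hje rfl
        | exact h1 h
        | exact h2 h
        | exact hj h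
        | exact h5 h'
        | exact h6 h'
        | exact h7 h'
        | exact h4 (h'.trans h.symm)
  have hmoves : σ a ≠ a := by
    intro h
    obtain ⟨i, hi⟩ := hne
    apply hi
    by_cases hia : i = a
    · rw [hia]; exact h
    · by_cases hie : i = e
      · rw [hie]; exact he
      · exact hsimp a h i hia n.ae hie
  have h3a := h3 a
  rcases n.cov (σ a) with h | h | h | h
  · exact (hmoves h).elim
  · exact (hout a n.ae h).elim
  · -- `σ a = b`
    rcases n.cov (σ b) with h' | h' | h' | h'
    · rw [h, h'] at h3a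
      exact (hmoves h3a).elim
    · exact (hout b n.be h').elim
    · exact (n.ab (σ.injective (h.trans h'.symm))).elim
    · refine ⟨b, c, n, h, h', ?_, he⟩
      rw [h, h'] at h3a
      exact h3a
  · rcases n.cov (σ c) with h' | h' | h' | h'
    · rw [h, h'] at h3a
      exact (hmoves h3a).elim
    · exact (hout c n.ce h').elim
    · refine ⟨c, b, n.swap, h, h', ?_, he⟩
      rw [h, h'] at h3a
      exact h3a
    · exact (n.ac (σ.injective (h.trans h'.symm))).elim

end Cycle

section D4

open Cfsg.Lie

variable {W : Type*} [Group W] (cs : CoxeterSystem coxeterD4 W)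

theorem comm_of_two {i j : Fin 4} (h : coxeterD4 i j = 2) : cs.simple i * cs.simple j = cs.simple j * cs.simple i := by
  have h1 := cs.simple_mul_simple_pow i j
  rw [h, pow_two] at h1
  have h2 : (cs.simple i * cs.simple j)⁻¹ = cs.simple i * cs.simple j := inv_eq_of_mul_eq_one_left h1
  rw [mul_inv_rev, cs.inv_simple, cs.inv_simple] at h2
  exact h2.symm

theorem braid_of_three {i j : Fin 4} (h : coxeterD4 i j = 3) :
    cs.simple i * (cs.simple j * cs.simple i) = cs.simple j * (cs.simple i * cs.simple j) := by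
  have h1 := cs.simple_mul_simple_pow i j
  rw [h] at h1
  have h2 : (cs.simple i * (cs.simple j * cs.simple i)) * (cs.simple j * (cs.simple i * cs.simple j)) = 1 := by
    rw [← h1, pow_succ, pow_two]
    simp only [mul_assoc]
  have h3 : (cs.simple j * (cs.simple i * cs.simple j))⁻¹ = cs.simple j * (cs.simple i * cs.simple j) := by
    rw [mul_inv_rev, mul_inv_rev, cs.inv_simple, cs.inv_simple, mul_assoc]
  rw [← h3]
  exact eq_inv_of_mul_eq_one_left h2

theorem nodes4_D4 : Nodes4 cs 0 1 2 3 where
  cov i := by fin_cases i <;> simp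
  ab := by decide
  ac := by decide
  ae := by decide
  bc := by decide
  be := by decide
  ce := by decide
  rel :=
    { aa := cs.simple_mul_simple_self 0
      ee := cs.simple_mul_simple_self 1
      bb := cs.simple_mul_simple_self 2
      dd := cs.simple_mul_simple_self 3
      ab := comm_of_two cs rfl
      ad := comm_of_two cs rfl
      bd := comm_of_two cs rfl
      ae := braid_of_three cs rfl
      be := braid_of_three cs rfl
      de := braid_of_three cs rfl }

end D4

section BN

open CoxeterSystem Cfsg.Agent.ChevalleyStructure.CoxeterGeom Cfsg.Agent.Tits.Roots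
  Cfsg.Agent.Tits.RootComb Cfsg.Agent.Nodes.Comb Cfsg.Agent.Nodes.Reps Cfsg.Agent.Nodes.BNOf Cfsg.Agent.Nodes.BNOf.RGD
  Cfsg.Agent.Tits.OfBN

variable {I W Y : Type*} [Fintype I] [DecidableEq I] [Group W] [Group Y] {M : CoxeterMatrix I}
variable {cs : CoxeterSystem M W} {A : I → I → ℤ} {h : IsCartan M A} {p : ℕ} {T : Subgroup Y} {n : I → Y}
  {X : (I → ℤ) → Subgroup Y} [Finite W]

/-- the node of the (B, N)-pair -/
def node (R : RGD cs h p T n X) (hgen : RGD.B cs h T X ⊔ NN cs R.nsys = ⊤) (i : I) : (R.bnPair hgen).S := ⟨n i, i, rfl⟩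

theorem nodes4_bn (R : RGD cs h p T n X) (hgen : RGD.B cs h T X ⊔ NN cs R.nsys = ⊤)
    [hN : (((R.bnPair hgen).B ⊓ (R.bnPair hgen).N).subgroupOf (R.bnPair hgen).N).Normal]
    {M' : CoxeterMatrix (R.bnPair hgen).S} (cs' : CoxeterSystem M' (WP (R.bnPair hgen)))
    (hcs : ∀ i, cs'.simple i = QuotientGroup.mk (⟨(i : Y), (R.bnPair hgen).subset i.2⟩ : (R.bnPair hgen).N))
    {a e b c : I} (N : Nodes4 cs a e b c) :
    Nodes4 cs' (node R hgen a) (node R hgen e) (node R hgen b) (node R hgen c) := by
  have hinj : ∀ {i j : I}, i ≠ j → node R hgen i ≠ node R hgen j := fun hij h1 =>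
    hij (R.n_injective (congrArg Subtype.val h1))
  -- products of nodes
  have key : ∀ (ω : List I), ∃ g : (R.bnPair hgen).N, Rp cs R.nsys (cs.wordProd ω) (g : Y) ∧
      (ω.map fun i => cs'.simple (node R hgen i)).prod = QuotientGroup.mk g := by
    intro ω
    induction ω with
    | nil => exact ⟨1, by rw [cs.wordProd_nil]; exact rp_one, rfl⟩
    | cons i ω ih =>
      obtain ⟨g, hg, e1⟩ := ih
      refine ⟨⟨n i, (R.bnPair hgen).subset (node R hgen i).2⟩ * g, ?_, ?_⟩
      · rw [cs.wordProd_cons]
        exact (rp_simple cs R.nsys i).mul hg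
      · rw [List.map_cons, List.prod_cons, e1, hcs, ← QuotientGroup.mk_mul]
        rfl
  have key2 : ∀ (ω ω' : List I), cs.wordProd ω = cs.wordProd ω' →
      (ω.map fun i => cs'.simple (node R hgen i)).prod = (ω'.map fun i => cs'.simple (node R hgen i)).prod := by
    intro ω ω' hw
    obtain ⟨g, hg, e1⟩ := key ω
    obtain ⟨g', hg', e2⟩ := key ω'
    rw [e1, e2, mk_eq_iff]
    rw [hw] at hg
    exact T_le_B (hg.unique hg')
  have s2 : ∀ i j : I, cs.simple i * cs.simple j = cs.simple j * cs.simple i →
      cs'.simple (node R hgen i) * cs'.simple (node R hgen j) =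
        cs'.simple (node R hgen j) * cs'.simple (node R hgen i) := by
    intro i j hij
    have := key2 [i, j] [j, i] (by
      rw [cs.wordProd_cons, cs.wordProd_singleton, cs.wordProd_cons, cs.wordProd_singleton, hij])
    simpa using this
  have s3 : ∀ i j : I, cs.simple i * (cs.simple j * cs.simple i) = cs.simple j * (cs.simple i * cs.simple j) →
      cs'.simple (node R hgen i) * (cs'.simple (node R hgen j) * cs'.simple (node R hgen i)) =
        cs'.simple (node R hgen j) * (cs'.simple (node R hgen i) * cs'.simple (node R hgen j)) := by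
    intro i j hij
    have := key2 [i, j, i] [j, i, j] (by
      rw [cs.wordProd_cons, cs.wordProd_cons, cs.wordProd_singleton, cs.wordProd_cons, cs.wordProd_cons,
        cs.wordProd_singleton, hij])
    simpa using this
  exact
    { cov := by
        rintro ⟨_, i, rfl⟩
        rcases N.cov i with h1 | h1 | h1 | h1
        · left; rw [h1]; rfl
        · right; left; rw [h1]; rfl
        · right; right; left; rw [h1]; rfl
        · right; right; right; rw [h1]; rfl
      ab := hinj N.ab
      ac := hinj N.ac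
      ae := hinj N.ae
      bc := hinj N.bc
      be := hinj N.be
      ce := hinj N.ce
      rel :=
        { aa := cs'.simple_mul_simple_self _
          ee := cs'.simple_mul_simple_self _
          bb := cs'.simple_mul_simple_self _
          dd := cs'.simple_mul_simple_self _
          ab := s2 _ _ N.rel.ab
          ad := s2 _ _ N.rel.ad
          bd := s2 _ _ N.rel.bd
          ae := s3 _ _ N.rel.ae
          be := s3 _ _ N.rel.be
          de := s3 _ _ N.rel.de } }

end BN

end Cfsg.Agent.BpTri

end
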