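import Mathlib
import Cfsg.Agent.BpTri.Nodes
import Cfsg.Agent.ChevalleyStructure.CoxeterWordCheck

/-!
# The elements of the Weyl group of type `D₄` fixed by the triality (S1332)

* `six_D4`, `six_bn` : `(E A B D) ^ 6 = 1`;
* `mem_closure_of_fixed` : the fixed elements lie in `⟨E, A B D⟩`;
* `card_fixed_le` : there are at most `12` of them.
-/

set_option autoImplicit false
set_option linter.unusedSectionVars false

namespace Cfsg.Agent.BpTri

open Cfsg.Agent.Tits.Core Cfsg.Agent.Tits.Core.Bldg Cfsg.Agent.Tits.Exchange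

/-! ### The relation -/

section D4

open Cfsg.Lie Cfsg.Agent.ChevalleyStructure.CoxeterWordCheck Cfsg.Agent.ChevalleyStructure.CoxeterGeomTypes

variable {W : Type*} [Group W] (cs : CoxeterSystem coxeterD4 W)

/-- the word `(E A B D) ^ 6` -/
def sixWord : List (Fin 4) := [1, 0, 2, 3, 1, 0, 2, 3, 1, 0, 2, 3, 1, 0, 2, 3, 1, 0, 2, 3, 1, 0, 2, 3]

theorem six_D4 : cs.wordProd sixWord = 1 :=
  wordProd_eq_one cs isCartan_D4 _ (by decide +kernel)

end D4

section BN

open CoxeterSystem Cfsg.Agent.ChevalleyStructure.CoxeterGeom Cfsg.Agent.Tits.Roots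
  Cfsg.Agent.Tits.RootComb Cfsg.Agent.Nodes.Comb Cfsg.Agent.Nodes.Reps Cfsg.Agent.Nodes.BNOf Cfsg.Agent.Nodes.BNOf.RGD
  Cfsg.Agent.Tits.OfBN

variable {I W Y : Type*} [Fintype I] [DecidableEq I] [Group W] [Group Y] {M : CoxeterMatrix I}
variable {cs : CoxeterSystem M W} {A : I → I → ℤ} {h : IsCartan M A} {p : ℕ} {T : Subgroup Y} {n : I → Y}
  {X : (I → ℤ) → Subgroup Y} [Finite W]

/-- Relations of the Weyl group hold in the Weyl group of the (B, N)-pair. -/
theorem word_bn (R : RGD cs h p T n X) (hgen : RGD.B cs h T X ⊔ NN cs R.nsys = ⊤)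
    [hN : (((R.bnPair hgen).B ⊓ (R.bnPair hgen).N).subgroupOf (R.bnPair hgen).N).Normal]
    {M' : CoxeterMatrix (R.bnPair hgen).S} (cs' : CoxeterSystem M' (WP (R.bnPair hgen)))
    (hcs : ∀ i, cs'.simple i = QuotientGroup.mk (⟨(i : Y), (R.bnPair hgen).subset i.2⟩ : (R.bnPair hgen).N))
    (ω : List I) (hω : cs.wordProd ω = 1) : (ω.map fun i => cs'.simple (node R hgen i)).prod = 1 := by
  have key : ∀ (ω : List I), ∃ g : (R.bnPair hgen).N, Rp cs R.nsys (cs.wordProd ω) (g : Y) ∧
      (ω.map fun i => cs'.simple (node R hgen i)).prod = QuotientGroup.mk g := by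
    intro ω
    induction ω with
    | nil => exact ⟨1, by rw [cs.wordProd_nil]; exact rp_one, rfl⟩
    | cons i ω ih =>
      obtain ⟨g, hg, e1⟩ := ih
      refine ⟨⟨n i, (R.bnPair hgen).subset (node R hgen i).2⟩ * g, ?_, ?_⟩
      · rw [cs.wordProd_cons]
        exact (rp_simple cs R.nsys i).mul hg
      · rw [List.map_cons, List.prod_cons, e1, hcs, ← QuotientGroup.mk_mul]
        rfl
  obtain ⟨g, hg, e1⟩ := key ω
  rw [hω] at hg
  rw [e1]
  change (QuotientGroup.mk g : WP (R.bnPair hgen)) = QuotientGroup.mk 1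
  rw [mk_eq_iff]
  have h1 : (g : Y) ∈ T := hg.mem_of_one
  have h2 : ((g : Y)⁻¹ * ((1 : (R.bnPair hgen).N) : Y)) = (g : Y)⁻¹ := mul_one _
  rw [h2]
  exact T_le_B (inv_mem h1)

end BN

/-! ### The fixed elements -/

section Fixed

variable {I : Type*} {M : CoxeterMatrix I} {W : Type*} [Group W] {cs : CoxeterSystem M W} {a e b c : I}

local prefix:100 "ℓ" => cs.length

/-- the elements of `⟨A, B, D⟩` -/
theorem mem_outer (n : Nodes4 cs a e b c) {u : W} (hu : u ∈ WJ cs {i | i ≠ e}) :
    u = 1 ∨ u = cs.simple a ∨ u = cs.simple b ∨ u = cs.simple c ∨ u = cs.simple a * cs.simple b ∨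
      u = cs.simple a * cs.simple c ∨ u = cs.simple b * cs.simple c ∨
      u = cs.simple a * (cs.simple b * cs.simple c) := by
  have R := n.rel
  have step : ∀ i, i ≠ e → ∀ u : W,
      (u = 1 ∨ u = cs.simple a ∨ u = cs.simple b ∨ u = cs.simple c ∨ u = cs.simple a * cs.simple b ∨
        u = cs.simple a * cs.simple c ∨ u = cs.simple b * cs.simple c ∨
        u = cs.simple a * (cs.simple b * cs.simple c)) →
      (cs.simple i * u = 1 ∨ cs.simple i * u = cs.simple a ∨ cs.simple i * u = cs.simple b ∨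
        cs.simple i * u = cs.simple c ∨ cs.simple i * u = cs.simple a * cs.simple b ∨
        cs.simple i * u = cs.simple a * cs.simple c ∨ cs.simple i * u = cs.simple b * cs.simple c ∨
        cs.simple i * u = cs.simple a * (cs.simple b * cs.simple c)) := by
    intro i hi u hu
    have r1 : cs.simple b * cs.simple a = cs.simple a * cs.simple b := R.ab.symm
    have r2 : cs.simple c * cs.simple a = cs.simple a * cs.simple c := R.ad.symm
    have r3 : cs.simple c * cs.simple b = cs.simple b * cs.simple c := R.bd.symm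
    have r4 : ∀ x, cs.simple b * (cs.simple a * x) = cs.simple a * (cs.simple b * x) := fun x => (R.ab' x).symm
    have r5 : ∀ x, cs.simple c * (cs.simple a * x) = cs.simple a * (cs.simple c * x) := fun x => (R.ad' x).symm
    have r6 : ∀ x, cs.simple c * (cs.simple b * x) = cs.simple b * (cs.simple c * x) := fun x => (R.bd' x).symm
    rcases n.cov i with rfl | rfl | rfl | rfl
    · rcases hu with rfl | rfl | rfl | rfl | rfl | rfl | rfl | rfl <;> simp [R.aa, R.aa']
    · exact (hi rfl).elim
    · rcases hu with rfl | rfl | rfl | rfl | rfl | rfl | rfl | rfl <;> simp [R.bb, R.bb', r1, r4]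
    · rcases hu with rfl | rfl | rfl | rfl | rfl | rfl | rfl | rfl <;> simp [R.dd, r2, r3, r5, r6]
  obtain ⟨ω, hω, -, rfl⟩ := exists_reduced_of_mem_WJ cs hu
  clear hu
  induction ω with
  | nil => left; exact cs.wordProd_nil
  | cons i ω ih =>
    rw [cs.wordProd_cons]
    exact step i (hω i (List.mem_cons_self ..)) _ (ih fun j hj => hω j (List.mem_cons_of_mem _ hj))

/-- The elements fixed by the triality. -/
theorem mem_closure_of_fixed (n : Nodes4 cs a e b c) (hinj : Function.Injective cs.simple) {φ : W ≃* W}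
    (hlen : ∀ w, ℓ (φ w) = ℓ w) (ha : φ (cs.simple a) = cs.simple b) (hb : φ (cs.simple b) = cs.simple c)
    (hc : φ (cs.simple c) = cs.simple a) (he : φ (cs.simple e) = cs.simple e) {w : W} (hw : φ w = w) :
    w ∈ Subgroup.closure ({cs.simple e, cs.simple a * (cs.simple b * cs.simple c)} : Set W) := by
  have R := n.rel
  have hE : cs.simple e ∈ Subgroup.closure ({cs.simple e, cs.simple a * (cs.simple b * cs.simple c)} : Set W) :=
    Subgroup.subset_closure (Or.inl rfl)
  have hZ : cs.simple a * (cs.simple b * cs.simple c) ∈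
      Subgroup.closure ({cs.simple e, cs.simple a * (cs.simple b * cs.simple c)} : Set W) :=
    Subgroup.subset_closure (Or.inr rfl)
  -- `φ` preserves `⟨A, B, D⟩`
  have hφJ : ∀ u ∈ WJ cs {i | i ≠ e}, φ u ∈ WJ cs {i | i ≠ e} := by
    intro u hu
    have h1 : cs.simple a ∈ WJ cs {i | i ≠ e} := simple_mem_WJ cs n.ae
    have h2 : cs.simple b ∈ WJ cs {i | i ≠ e} := simple_mem_WJ cs n.be
    have h3 : cs.simple c ∈ WJ cs {i | i ≠ e} := simple_mem_WJ cs n.ce
    rcases mem_outer n hu with rfl | rfl | rfl | rfl | rfl | rfl | rfl | rfl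
    · rw [map_one]; exact one_mem _
    · rw [ha]; exact h2
    · rw [hb]; exact h3
    · rw [hc]; exact h1
    · rw [map_mul, ha, hb]; exact mul_mem h2 h3
    · rw [map_mul, ha, hc]; exact mul_mem h2 h1
    · rw [map_mul, hb, hc]; exact mul_mem h3 h1
    · rw [map_mul, map_mul, ha, hb, hc]; exact mul_mem h2 (mul_mem h3 h1)
  have hne : ∀ {i j : I}, i ≠ j → cs.simple i ≠ cs.simple j := fun hij h => hij (hinj h)
  generalize hm : ℓ w = m
  induction m using Nat.strong_induction_on generalizing w with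
  | _ m ih =>
  by_cases hw1 : w = 1
  · rw [hw1]; exact one_mem _
  obtain ⟨i, hi⟩ := cs.exists_leftDescent_of_ne_one hw1
  rw [cs.isLeftDescent_iff] at hi
  by_cases hie : i = e
  · subst hie
    have h1 := ih _ (by omega) (w := cs.simple i * w) (by rw [map_mul, he, hw]) rfl
    have h2 := mul_mem hE h1
    rwa [cs.simple_mul_simple_cancel_left] at h2
  · -- an outer descent
    obtain ⟨u, hu, v, huv, hv⟩ := exists_isMinL cs {i | i ≠ e} w
    have hv' : IsMinL cs {i | i ≠ e} (φ v) := by
      intro x hx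
      have h4 : ∀ y ∈ WJ cs {i | i ≠ e}, φ (φ (φ y)) = y := by
        intro y hy
        rcases mem_outer n hy with rfl | rfl | rfl | rfl | rfl | rfl | rfl | rfl <;>
          simp [ha, hb, hc]
      have h6 : φ.symm x = φ (φ x) := by
        rw [MulEquiv.symm_apply_eq]
        exact (h4 x hx).symm
      have hx' : φ.symm x ∈ WJ cs {i | i ≠ e} := by
        rw [h6]
        exact hφJ _ (hφJ _ hx)
      have h7 := hv _ hx'
      rw [← hlen, map_mul, φ.apply_symm_apply, ← hlen (φ.symm x), φ.apply_symm_apply, ← hlen v] at h7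
      exact h7
    have hw' : φ u * φ v = u * v := by rw [← map_mul, ← huv, hw]
    have hφv : φ v = v := by
      refine IsMinL.unique (cs := cs) hv hv' (u := (φ u)⁻¹ * u) (mul_mem (inv_mem (hφJ _ hu)) hu) ?_
      rw [mul_assoc, ← hw', inv_mul_cancel_left]
    have hφu : φ u = u := by
      rw [hφv] at hw'
      exact mul_right_cancel hw'
    have hu1 : u ≠ 1 := by
      rintro rfl
      rw [one_mul] at huv
      have h1 := hv _ (simple_mem_WJ cs (J := {i | i ≠ e}) (i := i) hie)
      rw [← huv, cs.length_simple] at h1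
      omega
    have huZ : u = cs.simple a * (cs.simple b * cs.simple c) := by
      rcases mem_outer n hu with h1 | h1 | h1 | h1 | h1 | h1 | h1 | h1
      · exact (hu1 h1).elim
      · rw [h1, ha] at hφu
        exact (hne n.ab hφu.symm).elim
      · rw [h1, hb] at hφu
        exact (hne n.bc hφu.symm).elim
      · rw [h1, hc] at hφu
        exact (hne n.ac hφu).elim
      · rw [h1, map_mul, ha, hb, R.ab] at hφu
        exact (hne n.ac.symm (mul_left_cancel hφu)).elim
      · rw [h1, map_mul, ha, hc, ← R.ab] at hφu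
        exact (hne n.bc (mul_left_cancel hφu)).elim
      · rw [h1, map_mul, hb, hc, R.bd] at hφu
        exact (hne n.ab (mul_left_cancel hφu)).elim
      · exact h1
    have h1 := hv u hu
    have h2 : ℓ u ≠ 0 := fun h => hu1 (cs.length_eq_zero_iff.1 h)
    rw [← huv] at h1
    rw [huv, huZ]
    exact mul_mem hZ (ih _ (by omega) hφv rfl)

/-- The subgroup generated by two involutions whose product has order dividing `6` has at most `12` elements. -/
theorem card_closure_le {E Z : W} (hE : E * E = 1) (hZ : Z * Z = 1) (h6 : (E * Z) ^ 6 = 1) {S : Set W}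
    (hS : ∀ w ∈ S, w ∈ Subgroup.closure ({E, Z} : Set W)) : S.ncard ≤ 12 := by
  classical
  let f : Fin 6 × Bool → W := fun x => (E * Z) ^ (x.1 : ℕ) * if x.2 then E else 1
  have hf : ∀ (k : ℕ) (b : Bool), ∃ x, f x = (E * Z) ^ k * if b then E else 1 := by
    intro k b
    refine ⟨(⟨k % 6, Nat.mod_lt _ (by norm_num)⟩, b), ?_⟩
    change (E * Z) ^ (k % 6) * _ = _
    rw [← pow_eq_pow_mod k h6]
  have hEi : E⁻¹ = E := inv_eq_of_mul_eq_one_left hE
  have hZi : Z⁻¹ = Z := inv_eq_of_mul_eq_one_left hZ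
  have hinv : (E * Z)⁻¹ = Z * E := by rw [mul_inv_rev, hEi, hZi]
  have hEk : ∀ k : ℕ, E * (E * Z) ^ k = (Z * E) ^ k * E := by
    intro k
    induction k with
    | zero => simp
    | succ k ih =>
      rw [pow_succ, ← mul_assoc, ih, pow_succ]
      simp only [mul_assoc]
      rw [← mul_assoc E E, hE, one_mul, mul_one]
  have hneg : ∀ k : ℕ, ∃ l : ℕ, (Z * E) ^ k = (E * Z) ^ l := by
    intro k
    refine ⟨5 * k, ?_⟩
    rw [pow_mul, ← hinv]
    congr 1
    rw [inv_eq_iff_mul_eq_one, ← pow_succ']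
    exact h6
  have hmem : ∀ w ∈ Subgroup.closure ({E, Z} : Set W), ∃ x, f x = w := by
    intro w hw
    induction hw using Subgroup.closure_induction_left with
    | one => exact ⟨(0, false), by simp [f]⟩
    | mul_left x hx y hy ih =>
      obtain ⟨⟨⟨k, hk⟩, b⟩, rfl⟩ := ih
      rcases hx with rfl | hx
      · -- `E * (E Z) ^ k E ^ b`
        obtain ⟨l, hl⟩ := hneg k
        obtain ⟨z, hz⟩ := hf l (!b)
        refine ⟨z, ?_⟩
        rw [hz]
        change _ = x * ((x * Z) ^ k * _)
        rw [← mul_assoc, hEk, hl]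
        cases b <;> simp [mul_assoc, hE]
      · rw [Set.mem_singleton_iff] at hx
        subst hx
        obtain ⟨l, hl⟩ := hneg (k + 1)
        obtain ⟨z, hz⟩ := hf l (!b)
        refine ⟨z, ?_⟩
        rw [hz, ← hl]
        change _ = x * ((E * x) ^ k * _)
        have h1 : (E * x) ^ k = E * ((x * E) ^ k * E) := by
          rw [← hEk, ← mul_assoc, hE, one_mul]
        rw [h1, pow_succ']
        cases b <;> simp [mul_assoc, hE]
    | inv_mul_cancel x hx y hy ih =>
      obtain ⟨⟨⟨k, hk⟩, b⟩, rfl⟩ := ih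
      rcases hx with rfl | hx
      · obtain ⟨l, hl⟩ := hneg k
        obtain ⟨z, hz⟩ := hf l (!b)
        refine ⟨z, ?_⟩
        rw [hz, hEi]
        change _ = x * ((x * Z) ^ k * _)
        rw [← mul_assoc, hEk, hl]
        cases b <;> simp [mul_assoc, hE]
      · rw [Set.mem_singleton_iff] at hx
        subst hx
        obtain ⟨l, hl⟩ := hneg (k + 1)
        obtain ⟨z, hz⟩ := hf l (!b)
        refine ⟨z, ?_⟩
        rw [hz, hZi, ← hl]
        change _ = x * ((E * x) ^ k * _)
        have h1 : (E * x) ^ k = E * ((x * E) ^ k * E) := by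
          rw [← hEk, ← mul_assoc, hE, one_mul]
        rw [h1, pow_succ']
        cases b <;> simp [mul_assoc, hE]
  have h1 : S ⊆ Set.range f := fun w hw => hmem w (hS w hw)
  have h2 : (Set.range f).Finite := Set.finite_range f
  calc S.ncard ≤ (Set.range f).ncard := Set.ncard_le_ncard h1 h2
    _ ≤ Nat.card (Fin 6 × Bool) := by
      rw [← Set.image_univ]
      refine (Set.ncard_image_le Set.finite_univ).trans ?_
      rw [Set.ncard_univ]
    _ = 12 := by simp

/-- There are at most `12` fixed elements. -/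
theorem card_fixed_le (n : Nodes4 cs a e b c) (hinj : Function.Injective cs.simple) {φ : W ≃* W}
    (hlen : ∀ w, ℓ (φ w) = ℓ w) (ha : φ (cs.simple a) = cs.simple b) (hb : φ (cs.simple b) = cs.simple c)
    (hc : φ (cs.simple c) = cs.simple a) (he : φ (cs.simple e) = cs.simple e)
    (h6 : (cs.simple e * (cs.simple a * (cs.simple b * cs.simple c))) ^ 6 = 1) :
    {w | φ w = w}.ncard ≤ 12 := by
  have R := n.rel
  refine card_closure_le (cs.simple_mul_simple_self e) ?_ h6 fun w hw =>
    mem_closure_of_fixed n hinj hlen ha hb hc he hw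
  have e1 : cs.simple c * (cs.simple a * (cs.simple b * cs.simple c)) = cs.simple a * cs.simple b := by
    rw [← mul_assoc, ← R.ad, mul_assoc, ← mul_assoc (cs.simple c), ← R.bd, mul_assoc,
      cs.simple_mul_simple_self, mul_one]
  have e2 : cs.simple b * (cs.simple a * cs.simple b) = cs.simple a := by
    rw [R.ab, cs.simple_mul_simple_cancel_left]
  rw [mul_assoc, mul_assoc, e1, e2, cs.simple_mul_simple_self]

end Fixed

end Cfsg.Agent.BpTri
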